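import Groth.Agent.SpFinCover.Cover
import Groth.Agent.SpChev.FinQA
import Groth.Agent.SepAffine.Main
import Groth.Agent.AlgSpLib.NoethPts
import Groth.Agent.AlgSpLib.SepAffine
import Groth.Agent.SpQS.DecentProps
import Groth.Agent.AlgStLib.SmLocally
import Groth.Agent.S10248
import Groth.Agent.S10375

/-!
# Points of codimension at most one lie in affine open subspaces
-/

set_option autoImplicit false
set_option linter.style.haveILetI false

universe u

open CategoryTheory CategoryTheory.Limits AlgebraicGeometry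

set_option backward.isDefEq.respectTransparency false

namespace Groth.Agent.SpFinCover

open _root_.AlgSp Groth.Agent.AlgSpLib Groth.Agent.SpChev

variable {S : Scheme.{u}}

theorem dim_le_of_generalizing {X Y : Scheme.{u}} (f : X ⟶ Y) (hgen : GeneralizingMap f) (x : X) :
    ringKrullDim (Y.presheaf.stalk (f x)) ≤ ringKrullDim (X.presheaf.stalk x) := by
  rw [ringKrullDim_stalk_eq_coheight, ringKrullDim_stalk_eq_coheight]
  refine WithBot.coe_le_coe.2 (Order.coheight_le fun p hp => ?_)
  -- lift the chain from its head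
  have key : ∀ (n : ℕ) (p : LTSeries Y) (z : X), p.length = n → p.head = f z →
      ∃ q : LTSeries X, q.head = z ∧ q.length = n := by
    intro n
    induction n with
    | zero => exact fun p z _ _ => ⟨RelSeries.singleton _ z, rfl, rfl⟩
    | succ n ih =>
      intro p z hn hz
      have h0 : 0 < p.length := by omega
      let i : Fin (p.length + 1) := ⟨1, by omega⟩
      have hlt : p.head < p i := p.strictMono (show (0 : Fin (p.length + 1)) < i from Nat.one_pos)
      obtain ⟨z', hz', hfz⟩ := hgen (show p i ⤳ f z from hz ▸ hlt.le)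
      obtain ⟨q, hq, hql⟩ := ih (p.drop i) z' (by simp [i]; omega) ((RelSeries.head_drop p i).trans hfz.symm)
      refine ⟨q.cons z (hq.symm ▸ lt_of_le_not_ge hz' fun e => ?_), RelSeries.head_cons _ _ _, by simp [hql]⟩
      have h1 : f z' ≤ f z := (show z ⤳ z' from e).map f.continuous
      rw [hfz, ← hz] at h1
      exact hlt.not_ge h1
  obtain ⟨q, hq, hql⟩ := key p.length p x rfl hp
  rw [← hql]
  exact Order.length_le_coheight hq.ge

theorem dim_le_of_finite {X Y : Scheme.{u}} (f : X ⟶ Y) [IsFinite f] (x : X) :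
    ringKrullDim (X.presheaf.stalk x) ≤ ringKrullDim (Y.presheaf.stalk (f x)) := by
  rw [ringKrullDim_stalk_eq_coheight, ringKrullDim_stalk_eq_coheight]
  refine WithBot.coe_le_coe.2 (Order.coheight_le_coheight_apply_of_strictMono f (fun a b hab => ?_) x)
  have h1 : f b ⤳ f a := (show b ⤳ a from hab.le).map f.continuous
  refine lt_of_le_not_ge h1 fun e => hab.not_ge ?_
  exact (show a ⤳ b from specializes_of_eq (EquidimPt.eq_of_specializes f (show b ⤳ a from hab.le) (((show f a ⤳ f b from e).antisymm h1).eq.symm)).symm)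

set_option maxHeartbeats 4000000 in
/-- finitely many points of codimension at most one lie in an affine open; only the part of the base
that the space sees needs to be separated -/
theorem exists_affine_nhd' [QuasiSeparatedSpace ↥S] (X : AlgSp.Space S) (hsep : IsSeparatedSp X.obj)
    (hN : IsLocNoethSp X.obj)
    (hmagic : ∀ {U V : Over S}, IsAffine U.left → IsAffine V.left → ((yon S).obj U ⟶ X.obj) →
      ((yon S).obj V ⟶ X.obj) → IsAffine (U ⨯ V).left)
    (hTs : ∀ {T : Over S}, ((yon S).obj T ⟶ X.obj) → IsSeparated T.hom → T.left.IsSeparated)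
    (s : Finset (Points X.obj))
    (hs : ∀ x ∈ s, HasAt (fun U u => ringKrullDim ↥(U.presheaf.stalk u) ≤ 1) X.obj x) :
    ∃ (T : Over S) (j : (yon S).obj T ⟶ X.obj), IsAffine T.left ∧ RepWith @IsOpenImmersion j ∧
      ∀ x ∈ s, x ∈ Set.range (Points.ofPt j) := by
  classical
  have hX := X.property
  obtain ⟨U₀, a₀, ha₀, ha₀s⟩ := hX.atlas
  have : IsLocallyNoetherian U₀.left := isLocallyNoetherian_chart hX hN ha₀
  have ha₀o : IsOpenMap (Points.ofPt a₀) := isOpenMap_ofPt (repWith_mono (fun _ _ r hr => by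
    have : Etale r := hr
    exact (inferInstance : UniversallyOpen r)) ha₀)
  -- a quasi-compact open neighbourhood
  have hlift : ∀ x : Points X.obj, ∃ O : U₀.left.Opens, IsAffineOpen O ∧ x ∈ Points.ofPt a₀ '' (O : Set U₀.left) :=
    fun x => by
      obtain ⟨u, hu⟩ := ofPt_surjective ha₀s x
      obtain ⟨O, hO, huO, -⟩ := exists_isAffineOpen_mem_and_subset (x := u) (U := ⊤) trivial
      exact ⟨O, hO, u, huO, hu⟩
  choose O hO hxO using hlift
  let W : Set (Points X.obj) := ⋃ x ∈ s, Points.ofPt a₀ '' (O x : Set U₀.left)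
  have hWo : IsOpen W := isOpen_biUnion fun x _ => ha₀o _ (O x).isOpen
  have hWc : IsCompact W := s.isCompact_biUnion fun x _ => (hO x).isCompact.image (Points.continuous_ofPt a₀)
  have hsW : ∀ x ∈ s, x ∈ W := fun x hx => Set.mem_biUnion hx (hxO x)
  have hWa := isAlgSpace_subSheaf hX hWo
  have hinc := repWith_subInc hWo
  have hWqc : IsQuasiCompactSp (subSheaf W) := by
    have : CompactSpace (Points (subSheaf W)) := by
      refine ⟨((immersion_topology hX (repWith_mono (fun _ _ g (hg : IsOpenImmersion g) => (inferInstance : IsImmersion g)) hinc)).1.isCompact_iff).2 ?_⟩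
      rw [Set.image_univ, range_subInc]
      exact hWc
    exact isQuasiCompactSp_of_compactSpace hWa
  have hWsep : IsSeparatedSp (subSheaf W) := by
    refine (isSeparatedSp_iff_mor (SpQS.baseStr _)).2 ?_
    rw [show SpQS.baseStr (subSheaf W) = subInc W ≫ SpQS.baseStr X.obj from SpQS.isTerminalBase.hom_ext _ _]
    exact isSeparatedMor_comp (UnivInjMor.isSeparatedMor_of_mono _) ((isSeparatedSp_iff_mor _).1 hsep)
  have hWqs : IsQuasiSeparatedSp (subSheaf W) := repWith_mono (fun _ _ r hr => by
    have : IsClosedImmersion r := hr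
    infer_instance) hWsep
  have := compactSpace_of_isQuasiCompactSp hWqc
  obtain ⟨U, a, hU, hae, has⟩ := exists_affine_chart_of_compact hWa
  have haX : RepWith @Etale (a ≫ subInc W) := repWith_comp hae (repWith_mono (fun _ _ r hr => by
    have : IsOpenImmersion r := hr
    exact (inferInstance : Etale r)) hinc)
  have : IsLocallyNoetherian U.left := isLocallyNoetherian_chart hX hN haX
  obtain ⟨R, p₁, p₂, sqR⟩ := exists_pullback hWa.diag a a
  have : IsAffine R.left := by
    have : IsAffine (U ⨯ U).left := hmagic hU hU (a ≫ subInc W) (a ≫ subInc W)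
    have : IsClosedImmersion (prod.lift p₁ p₂).left := (repWith_yon_iff _).1 (repWith_lift_of_diag hWsep sqR)
    exact isAffine_of_isAffineHom (prod.lift p₁ p₂).left
  -- a finite cover by a scheme
  obtain ⟨Y, g, hg, hgs, -⟩ := S10375.result ⟨subSheaf W, hWa⟩ hWqc hWqs a hae has
  have : CompactSpace Y.left := by
    obtain ⟨YU, e', w, sq, hw⟩ := exists_repWith hg a
    obtain ⟨e, rfl⟩ := exists_map_eq e'
    have : IsIntegralHom w.left := hw
    have : IsAffine YU.left := isAffine_of_isAffineHom w.left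
    exact (surjective_of_repWith_chart has sq).compactSpace e.left.continuous
  obtain ⟨T, f, -, hf, hfs, -, -⟩ := exists_finite_cover hWa hae has sqR hg (ofPt_surjective hgs)
  obtain ⟨TU, e', v, sqV, hv⟩ := exists_repWith hf a
  obtain ⟨e, rfl⟩ := exists_map_eq e'
  have : IsFinite v.left := hv
  have : Etale e.left := (repWith_yon_iff e).1 (repWith_baseChange sqV.flip hae)
  have : Surjective e.left := (repWith_yon_iff e).1 (repWith_baseChange sqV.flip has)
  have : IsLocallyNoetherian TU.left := LocallyOfFiniteType.isLocallyNoetherian v.left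
  have : IsLocallyNoetherian T.left := AlgStLib.isLocallyNoetherian_of_smooth_surjective e.left
  have hTsep : IsSeparated T.hom := by
    have h1 : IsSeparatedMor (f ≫ SpQS.baseStr _) := isSeparatedMor_comp
      ((isSeparatedMor_iff_repWith (IsAlgSpace.yon_obj T) hWa hf.1).2 (repWith_mono (fun _ _ r hr => by
        have : IsFinite r := hr
        exact (inferInstance : IsSeparated r)) hf)) ((isSeparatedSp_iff_mor _).1 hWsep)
    let b : T ⟶ Over.mk (𝟙 S) := Over.homMk T.hom (Category.comp_id _)
    rw [show f ≫ SpQS.baseStr _ = (yon S).map b from SpQS.isTerminalBase.hom_ext _ _] at h1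
    exact (repWith_yon_iff b).1 ((isSeparatedMor_iff_repWith (IsAlgSpace.yon_obj T)
      (IsAlgSpace.yon_obj _) (((repWith_yon_iff (P := ⊤) b).2 trivial).1)).1 h1)
  have : T.left.IsSeparated := hTs (f ≫ subInc W) hTsep
  -- dimensions upstairs
  have hdim : ∀ x ∈ s, ∀ t : T.left, Points.map (subInc W) (Points.ofPt f t) = x →
      ringKrullDim (T.left.presheaf.stalk t) ≤ 1 := fun x hx t ht => by
    obtain ⟨z, rfl⟩ := e.left.surjective t
    obtain ⟨U', a', u', ha', hu', hd'⟩ := hs x hx
    have h1 := (S10248.result X x (ringKrullDim ↥(U'.left.presheaf.stalk u'))).1 ⟨U', a', u', ha', hu', rfl⟩ U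
      (a ≫ subInc W) (v.left z) haX (by
      rw [← Points.map_ofPt, ← ofPt_comp, ← sqV.w, ofPt_comp, ht])
    calc ringKrullDim (T.left.presheaf.stalk (e.left z)) ≤ ringKrullDim (TU.left.presheaf.stalk z) :=
          dim_le_of_generalizing e.left (Flat.generalizingMap e.left) z
      _ ≤ ringKrullDim (U.left.presheaf.stalk (v.left z)) := dim_le_of_finite v.left z
      _ ≤ 1 := h1 ▸ hd'
  let E : Set T.left := {t | Points.map (subInc W) (Points.ofPt f t) ∈ s}
  have hinj : Function.Injective (Points.map (subInc W)) := SchImg.injective_map_of_mono (i := subInc W)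
  have hE : E.Finite := by
    refine Set.Finite.subset ((s.finite_toSet.preimage hinj.injOn).biUnion fun y _ => finite_fibre hf has y)
      fun t ht => ?_
    exact Set.mem_biUnion (x := Points.ofPt f t) ht rfl
  obtain ⟨D, hD, hED⟩ := SepAffine.exists_affine_of_dim_le_one hE fun t ht => hdim _ ht t rfl
  -- the scheme open
  have hfc : IsClosedMap (Points.ofPt f) := isClosedMap_ofPt_of_univClosed hWa (repWith_mono (fun _ _ r hr => by
    have : IsFinite r := hr
    exact (inferInstance : UniversallyClosed r)) hf)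
  have hlift' : ∀ x : ↥s, ∃ O' : U.left.Opens, IsAffineOpen O' ∧
      x.1 ∈ Points.map (subInc W) '' (Points.ofPt a '' (O' : Set U.left)) ∧
      (O' : Set U.left) ⊆ Points.ofPt a ⁻¹' (Points.ofPt f '' (D : Set T.left)ᶜ)ᶜ := fun x => by
    obtain ⟨y, hy⟩ : x.1 ∈ Set.range (Points.map (subInc W)) := by rw [range_subInc]; exact hsW x.1 x.2
    obtain ⟨u, rfl⟩ := ofPt_surjective has y
    obtain ⟨O', hO', huO', hle⟩ := exists_isAffineOpen_mem_and_subset (x := u)
      (U := ⟨Points.ofPt a ⁻¹' (Points.ofPt f '' (D : Set T.left)ᶜ)ᶜ,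
        (hfc _ D.isOpen.isClosed_compl).isOpen_compl.preimage (Points.continuous_ofPt a)⟩) (by
        rintro ⟨t, ht, e'⟩
        refine ht (hED ?_)
        show Points.map (subInc W) (Points.ofPt f t) ∈ s
        rw [e', hy]
        exact x.2)
    exact ⟨O', hO', ⟨_, ⟨u, huO', rfl⟩, hy⟩, hle⟩
  choose O' hO'a hxO' hO'D using hlift'
  have hao : IsOpenMap (Points.ofPt a) := isOpenMap_ofPt (repWith_mono (fun _ _ r hr => by
    have : Etale r := hr
    exact (inferInstance : UniversallyOpen r)) hae)
  let W' : Set (Points (subSheaf W)) := ⋃ x : ↥s, Points.ofPt a '' (O' x : Set U.left)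
  have hW'o : IsOpen W' := isOpen_iUnion fun x => hao _ (O' x).isOpen
  have hW'c : IsCompact W' := isCompact_iUnion fun x => (hO'a x).isCompact.image (Points.continuous_ofPt a)
  have hW'a := isAlgSpace_subSheaf hWa hW'o
  have hW'qc : IsQuasiCompactSp (subSheaf W') := by
    have : CompactSpace (Points (subSheaf W')) := by
      refine ⟨((immersion_topology hWa (repWith_mono (fun _ _ g (hg : IsOpenImmersion g) => (inferInstance : IsImmersion g)) (repWith_subInc hW'o))).1.isCompact_iff).2 ?_⟩
      rw [Set.image_univ, range_subInc]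
      exact hW'c
    exact isQuasiCompactSp_of_compactSpace hW'a
  have hW'qs : IsQuasiSeparatedSp (subSheaf W') := isQuasiSeparatedSp_of_mor
    (ValLib.isQuasiSeparatedMor_of_separated (subInc W') (UnivInjMor.isSeparatedMor_of_mono _)) hWqs
  have := compactSpace_of_isQuasiCompactSp hW'qc
  obtain ⟨U', a', hU', ha'e, ha's⟩ := exists_affine_chart_of_compact hW'a
  have : IsLocallyNoetherian U'.left := isLocallyNoetherian_chart hX hN (b := a' ≫ subInc W' ≫ subInc W)
    (repWith_comp ha'e (repWith_comp (repWith_mono (fun _ _ r hr => by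
      have : IsOpenImmersion r := hr
      exact (inferInstance : Etale r)) (repWith_subInc hW'o)) (repWith_mono (fun _ _ r hr => by
      have : IsOpenImmersion r := hr
      exact (inferInstance : Etale r)) hinc)))
  let P : T.left.Opens := ⟨Points.ofPt f ⁻¹' W', hW'o.preimage (Points.continuous_ofPt f)⟩
  let Po : Over S := Over.mk (P.ι ≫ T.hom)
  obtain ⟨f', hf'⟩ := exists_factor_subInc (W := W') ((yon S).map (Over.homMk P.ι rfl : Po ⟶ T) ≫ f) fun z => by
    obtain ⟨z, rfl⟩ := (Points.schemeHomeo _).surjective z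
    rw [← ofPt_eq_map, ofPt_comp]
    exact z.2
  have hf'f : RepWith @IsFinite f' := repWith_baseChange (isPullback_subInc_of_preimage hW'o P rfl hf') hf
  have hPD : P ≤ D := fun t ht => by
    obtain ⟨x, u, hu, e'⟩ := Set.mem_iUnion.1 (show Points.ofPt f t ∈ W' from ht)
    by_contra h
    exact hO'D x hu ⟨t, h, e'.symm⟩
  have : CompactSpace Po.left := by
    obtain ⟨V', q', w', sq', hw'⟩ := exists_repWith hf'f a'
    obtain ⟨q, rfl⟩ := exists_map_eq q'
    have : IsFinite w'.left := hw'
    have : IsAffine V'.left := isAffine_of_isAffineHom w'.left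
    exact (surjective_of_repWith_chart ha's sq').compactSpace q.left.continuous
  have : IsAffine D.toScheme := hD
  have : CompactSpace P.toScheme := ‹CompactSpace Po.left›
  have : QuasiCompact (T.left.homOfLE hPD) := inferInstance
  have : Po.left.IsQuasiAffine := Scheme.IsQuasiAffine.of_isImmersion (T.left.homOfLE hPD)
  obtain ⟨Q, ⟨θ⟩⟩ := isSch_of_finite_qa hW'a hW'qc hW'qs hf'f (fun y => by
    obtain ⟨t, ht⟩ := hfs (Points.map (subInc W') y)
    have htP : t ∈ P := by
      show Points.ofPt f t ∈ W'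
      rw [ht]
      exact map_subInc_mem y
    refine ⟨(⟨t, htP⟩ : P.toScheme), SchImg.injective_map_of_mono (i := subInc W') ?_⟩
    rw [Points.map_ofPt, hf', ofPt_comp, ← ht]
    rfl) ha'e ha's
  -- the affine open inside
  let ι : (yon S).obj Q ⟶ X.obj := θ.hom ≫ subInc W' ≫ subInc W
  have hι : RepWith @IsOpenImmersion ι := (repWith_iso_comp_iff _ _).2 (repWith_comp (repWith_subInc hW'o) hinc)
  have hιe : RepWith @Etale ι := repWith_mono (fun _ _ r hr => by
    have : IsOpenImmersion r := hr
    exact (inferInstance : Etale r)) hι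
  have : IsLocallyNoetherian Q.left := isLocallyNoetherian_chart hX hN hιe
  have : Q.left.IsSeparated := by
    have h1 : IsSeparatedMor (ι ≫ SpQS.baseStr _) := isSeparatedMor_comp
      ((isSeparatedMor_iff_repWith (IsAlgSpace.yon_obj Q) hX hι.1).2 (repWith_mono (fun _ _ r hr => by
        have : IsOpenImmersion r := hr
        exact (inferInstance : IsSeparated r)) hι)) ((isSeparatedSp_iff_mor _).1 hsep)
    let b : Q ⟶ Over.mk (𝟙 S) := Over.homMk Q.hom (Category.comp_id _)
    rw [show ι ≫ SpQS.baseStr _ = (yon S).map b from SpQS.isTerminalBase.hom_ext _ _] at h1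
    have : IsSeparated Q.hom := (repWith_yon_iff b).1 ((isSeparatedMor_iff_repWith (IsAlgSpace.yon_obj Q)
      (IsAlgSpace.yon_obj _) (((repWith_yon_iff (P := ⊤) b).2 trivial).1)).1 h1)
    exact hTs ι this
  have hιinj : Function.Injective (Points.ofPt ι) := by
    have : Mono ι := mono_of_repWith_immersion (repWith_mono (P := @IsOpenImmersion) (Q := @IsImmersion)
      (fun _ _ g hg => have : IsOpenImmersion g := hg; inferInstance) hι)
    intro q q' e'
    rw [ofPt_eq_map, ofPt_eq_map] at e'
    exact (Points.schemeHomeo Q).injective (SchImg.injective_map_of_mono (i := ι) e')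
  have hmem : ∀ x ∈ s, ∃ q, Points.ofPt ι q = x := fun x hx => by
    obtain ⟨y, hy, rfl⟩ := hxO' ⟨x, hx⟩
    obtain ⟨y', hy'⟩ : y ∈ Set.range (Points.map (subInc W')) := by
      rw [range_subInc]
      exact Set.mem_iUnion.2 ⟨⟨_, hx⟩, hy⟩
    obtain ⟨q, hq⟩ := (Points.schemeHomeo Q).surjective (Points.map θ.inv y')
    exact ⟨q, by rw [ofPt_eq_map, hq, ← Points.map_comp, Iso.inv_hom_id_assoc, Points.map_comp, hy']⟩
  obtain ⟨D', hD', hED'⟩ := SepAffine.exists_affine_of_dim_le_one (X := Q.left)
    (s.finite_toSet.preimage hιinj.injOn) fun q hq => by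
      obtain ⟨U₂, a₂, u₂, ha₂, hu₂, hd₂⟩ := hs (Points.ofPt ι q) hq
      have h1 := (S10248.result X (Points.ofPt ι q) (ringKrullDim ↥(U₂.left.presheaf.stalk u₂))).1
        ⟨U₂, a₂, u₂, ha₂, hu₂, rfl⟩ Q ι q hιe rfl
      exact h1 ▸ hd₂
  refine ⟨Over.mk (D'.ι ≫ Q.hom), (yon S).map (Over.homMk D'.ι rfl : Over.mk (D'.ι ≫ Q.hom) ⟶ Q) ≫ ι, hD',
    repWith_comp ((repWith_yon_iff _).2 (inferInstanceAs (IsOpenImmersion D'.ι))) hι, fun x hx => ?_⟩
  obtain ⟨q, rfl⟩ := hmem x hx
  exact ⟨(⟨q, hED' hx⟩ : D'.toScheme), by rw [ofPt_comp]; rfl⟩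

/-- finitely many points of codimension at most one lie in an affine open -/
theorem exists_affine_nhd [S.IsSeparated] (X : AlgSp.Space S) (hsep : IsSeparatedSp X.obj)
    (hN : IsLocNoethSp X.obj) (s : Finset (Points X.obj))
    (hs : ∀ x ∈ s, HasAt (fun U u => ringKrullDim ↥(U.presheaf.stalk u) ≤ 1) X.obj x) :
    ∃ (T : Over S) (j : (yon S).obj T ⟶ X.obj), IsAffine T.left ∧ RepWith @IsOpenImmersion j ∧
      ∀ x ∈ s, x ∈ Set.range (Points.ofPt j) :=
  exists_affine_nhd' X hsep hN
    (fun {U V} _ _ _ _ => isAffine_of_isAffineHom (magic U V))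
    (fun {T} _ _ => ⟨by
      rw [show terminal.from T.left = T.hom ≫ terminal.from S from Subsingleton.elim _ _]
      infer_instance⟩) s hs

theorem dim_le_of_etale {X Y : Scheme.{u}} (f : X ⟶ Y) [Etale f] (x : X) :
    ringKrullDim (X.presheaf.stalk x) ≤ ringKrullDim (Y.presheaf.stalk (f x)) := by
  rw [ringKrullDim_stalk_eq_coheight, ringKrullDim_stalk_eq_coheight]
  refine WithBot.coe_le_coe.2 (Order.coheight_le_coheight_apply_of_strictMono f (fun a b hab => ?_) x)
  have h1 : f b ⤳ f a := (show b ⤳ a from hab.le).map f.continuous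
  refine lt_of_le_not_ge h1 fun e => hab.not_ge ?_
  exact (show a ⤳ b from specializes_of_eq (SpQS.eq_of_specializes_of_etale f (show b ⤳ a from hab.le)
    ((show f a ⤳ f b from e).antisymm h1).eq.symm).symm)

end Groth.Agent.SpFinCover
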