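import Groth.Agent.SpFinCover.CodimOne
import Groth.Agent.Bootstrap.QuotSp
import Groth.Agent.AlgSpLib.DiagProp
import Groth.Agent.AlgSpLib.LocalTarget
import Groth.Agent.S10562

/-!
# Quotients of schemes by separated flat equivalence relations are schemes in codimension one
-/

set_option autoImplicit false
set_option linter.style.haveILetI false

universe u

open CategoryTheory CategoryTheory.Limits AlgebraicGeometry

set_option backward.isDefEq.respectTransparency false

namespace Groth.Agent.SpFinCover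

open _root_.AlgSp Groth.Agent.AlgSpLib Groth.Agent.SpChev

variable {S : Scheme.{u}}

theorem isEqvRelSp_yon {Z Y : Over S} {s t : Z ⟶ Y} (h : AlgSp.IsEqvRel s t) :
    IsEqvRelSp ((yon S).map s) ((yon S).map t) := by
  refine ⟨fun T r r' h₁ h₂ => ?_, fun T => ⟨fun a => ?_, fun {a b} hab => ?_, fun {a b c} hab hbc => ?_⟩⟩
  · obtain ⟨r, rfl⟩ := exists_map_eq r
    obtain ⟨r', rfl⟩ := exists_map_eq r'
    rw [← Functor.map_comp, ← Functor.map_comp] at h₁ h₂
    rw [h.injective T r r' ((yon S).map_injective h₁) ((yon S).map_injective h₂)]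
  · obtain ⟨a, rfl⟩ := exists_map_eq a
    obtain ⟨r, h₁, h₂⟩ := (h.equivalence T).refl a
    exact ⟨(yon S).map r, by rw [← Functor.map_comp, h₁], by rw [← Functor.map_comp, h₂]⟩
  · obtain ⟨a, rfl⟩ := exists_map_eq a
    obtain ⟨b, rfl⟩ := exists_map_eq b
    obtain ⟨r, h₁, h₂⟩ := hab
    obtain ⟨r, rfl⟩ := exists_map_eq r
    rw [← Functor.map_comp] at h₁ h₂
    obtain ⟨r', e₁, e₂⟩ := (h.equivalence T).symm ⟨r, (yon S).map_injective h₁, (yon S).map_injective h₂⟩
    exact ⟨(yon S).map r', by rw [← Functor.map_comp, e₁], by rw [← Functor.map_comp, e₂]⟩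
  · obtain ⟨a, rfl⟩ := exists_map_eq a
    obtain ⟨b, rfl⟩ := exists_map_eq b
    obtain ⟨c, rfl⟩ := exists_map_eq c
    obtain ⟨r, h₁, h₂⟩ := hab
    obtain ⟨r', h₁', h₂'⟩ := hbc
    obtain ⟨r, rfl⟩ := exists_map_eq r
    obtain ⟨r', rfl⟩ := exists_map_eq r'
    rw [← Functor.map_comp] at h₁ h₂ h₁' h₂'
    obtain ⟨r'', e₁, e₂⟩ := (h.equivalence T).trans ⟨r, (yon S).map_injective h₁, (yon S).map_injective h₂⟩
      ⟨r', (yon S).map_injective h₁', (yon S).map_injective h₂'⟩
    exact ⟨(yon S).map r'', by rw [← Functor.map_comp, e₁], by rw [← Functor.map_comp, e₂]⟩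

/-- the pullback of two affines with images in an affine open of the base is affine -/
theorem isAffine_prod {U V : Over S} [IsAffine U.left] [IsAffine V.left] (O : S.Opens) (hO : IsAffineOpen O)
    (hU : Set.range U.hom ⊆ O) (hV : Set.range V.hom ⊆ O) : IsAffine (U ⨯ V).left := by
  have : IsAffine O.toScheme := hO
  let l₁ := IsOpenImmersion.lift O.ι U.hom (by rwa [Scheme.Opens.range_ι])
  let l₂ := IsOpenImmersion.lift O.ι V.hom (by rwa [Scheme.Opens.range_ι])
  have e₁ : l₁ ≫ O.ι = U.hom := IsOpenImmersion.lift_fac _ _ _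
  have e₂ : l₂ ≫ O.ι = V.hom := IsOpenImmersion.lift_fac _ _ _
  have : IsAffine (pullback l₁ l₂) := isAffine_of_isAffineHom (pullback.snd l₁ l₂)
  let φ : (U ⨯ V).left ≅ pullback l₁ l₂ := Over.prodLeftIsoPullback U V ≪≫
    { hom := pullback.lift (pullback.fst U.hom V.hom) (pullback.snd U.hom V.hom)
        ((cancel_mono O.ι).1 (by rw [Category.assoc, Category.assoc, e₁, e₂, pullback.condition]))
      inv := pullback.lift (pullback.fst l₁ l₂) (pullback.snd l₁ l₂)
        (by rw [← e₁, ← e₂, pullback.condition_assoc])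
      hom_inv_id := by apply pullback.hom_ext <;> simp
      inv_hom_id := by apply pullback.hom_ext <;> simp }
  exact IsAffine.of_isIso φ.hom

/-- points of codimension at most one of the quotient lie in the schematic locus -/
theorem exists_open_scheme_quot [IsLocallyNoetherian S] {Z Y : Over S} (s t : Z ⟶ Y)
    [LocallyOfFiniteType Y.hom] [LocallyOfFiniteType Z.hom]
    (hrel : AlgSp.IsEqvRel s t) [Flat s.left] [Flat t.left]
    [LocallyOfFiniteType s.left] [LocallyOfFiniteType t.left]
    (hcl : IsClosedImmersion (pullback.lift t.left s.left ((Over.w t).trans (Over.w s).symm) :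
      Z.left ⟶ pullback Y.hom Y.hom))
    (y : ↥Y.left) (hy : ringKrullDim ↥(Y.left.presheaf.stalk y) ≤ 1) :
    ∃ (U : Over S) (j : (yon S).obj U ⟶ quotSp ((yon S).map s) ((yon S).map t)),
      RepWith @IsOpenImmersion j ∧
      Points.ofPt (quotSpπ ((yon S).map s) ((yon S).map t)) y ∈ Set.range (Points.map j) := by
  classical
  have : QuasiSeparatedSpace ↥S := inferInstance
  have : IsLocallyNoetherian Y.left := LocallyOfFiniteType.isLocallyNoetherian Y.hom
  have hloc : ∀ (r : Z ⟶ Y), Flat r.left → LocallyOfFiniteType r.left →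
      LocP @Flat ((yon S).map r) ∧ LocP @LocallyOfFinitePresentation ((yon S).map r) := fun r hf hl =>
    have := hl
    ⟨(locP_iff_repWith etST_flat (IsAlgSpace.yon_obj Y) (AlgSp.representable_yon_map r)).2
      ((repWith_yon_iff r).2 hf),
    (locP_iff_repWith etST_lfp (IsAlgSpace.yon_obj Y) (AlgSp.representable_yon_map r)).2
      ((repWith_yon_iff r).2 (inferInstance : LocallyOfFinitePresentation r.left))⟩
  have hs := hloc s inferInstance inferInstance
  have ht := hloc t inferInstance inferInstance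
  have heqv := isEqvRelSp_yon hrel
  let π := quotSpπ ((yon S).map s) ((yon S).map t)
  have hF : IsAlgSpace (quotSp ((yon S).map s) ((yon S).map t)) :=
    Bootstrap.isAlgSpace_quotSp (IsAlgSpace.yon_obj Z) (IsAlgSpace.yon_obj Y) heqv hs ht
  let X : AlgSp.Space S := ⟨_, hF⟩
  have hK := Bootstrap.isPullback_quotSp ((yon S).map s) ((yon S).map t) heqv
  have hπf : LocP @Flat π :=
    Bootstrap.locP_quotSpπ @Flat etST_flat (IsAlgSpace.yon_obj Z) (IsAlgSpace.yon_obj Y) heqv hF hs.1
  have hπp : LocP @LocallyOfFinitePresentation π :=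
    Bootstrap.locP_quotSpπ @LocallyOfFinitePresentation etST_lfp (IsAlgSpace.yon_obj Z) (IsAlgSpace.yon_obj Y) heqv hF hs.2
  have hN : IsLocNoethSp X.obj := by
    refine S10562.result (X := (⟨(yon S).obj Y, IsAlgSpace.yon_obj Y⟩ : AlgSp.Space S)) (Y := X)
      (ObjectProperty.homMk π) hπp hπf Bootstrap.isSurjectiveMor_quotSpπ ?_
    exact ⟨Y, 𝟙 _, repWith_id _ Y, repWith_id _ Y, inferInstance⟩
  have hsep : IsSeparatedSp X.obj := by
    haveI : Epi π := Bootstrap.epi_quotSpπ
    haveI : Sheaf.IsLocallySurjective π := (Sheaf.isLocallySurjective_iff_epi _).2 inferInstance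
    have := isLocallySurjective_prod_map π π
    refine repWith_of_isLocallySurjective hF.diag (isPullback_lift_diag hK) ?_
    have e : prod.lift ((yon S).map t) ((yon S).map s) =
        (yon S).map (prod.lift t s) ≫ prodComparison (yon S) Y Y := by
      apply prod.hom_ext <;> simp [prodComparison, ← Functor.map_comp]
    rw [e]
    refine (repWith_comp_iso_iff (P := @IsClosedImmersion) _ _).2 ((repWith_yon_iff _).2 ?_)
    have e' : (prod.lift t s).left = pullback.lift t.left s.left ((Over.w t).trans (Over.w s).symm) ≫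
        (Over.prodLeftIsoPullback Y Y).inv := by
      rw [Iso.eq_comp_inv]
      apply pullback.hom_ext
      · rw [Category.assoc, Over.prodLeftIsoPullback_hom_fst, pullback.lift_fst, ← Over.comp_left, prod.lift_fst]
      · rw [Category.assoc, Over.prodLeftIsoPullback_hom_snd, pullback.lift_snd, ← Over.comp_left, prod.lift_snd]
    rw [e']
    infer_instance
  -- the part of the space over an affine open of the base
  obtain ⟨O, hO, hyO, -⟩ := exists_isAffineOpen_mem_and_subset (x := Y.hom y) (U := ⊤) trivial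
  let B : Over S := Over.mk (𝟙 S)
  let W : Set (Points X.obj) := Points.map (SpQS.baseStr X.obj) ⁻¹' (Points.schemeHomeo B '' (show Set B.left from (O : Set S)))
  have hWo : IsOpen W :=
    ((Points.schemeHomeo B).isOpenMap (show Set B.left from (O : Set S)) O.isOpen).preimage (Points.continuous_map _)
  have hbase : ∀ {T : Over S} (g : (yon S).obj T ⟶ X.obj) (τ : T.left),
      Points.map (SpQS.baseStr X.obj) (Points.ofPt g τ) = Points.schemeHomeo B (T.hom τ) := fun {T} g τ => by
    let b : T ⟶ B := Over.homMk T.hom (Category.comp_id _)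
    rw [Points.map_ofPt, show g ≫ SpQS.baseStr X.obj = (yon S).map b from SpQS.isTerminalBase.hom_ext _ _,
      ofPt_eq_map, Points.map_yon_map_eq, Function.comp_apply, Function.comp_apply, Homeomorph.symm_apply_apply]
    rfl
  have hxW : Points.ofPt π y ∈ W := ⟨Y.hom y, hyO, (hbase π y).symm⟩
  have hinc := repWith_subInc hWo
  have hWa := isAlgSpace_subSheaf hF hWo
  have hrange : ∀ {T : Over S}, ((yon S).obj T ⟶ subSheaf W) → Set.range T.hom ⊆ (O : Set S) := by
    rintro T g _ ⟨τ, rfl⟩
    obtain ⟨v, hv, e⟩ := (map_subInc_mem (Points.ofPt g τ) : Points.map (subInc W) _ ∈ W)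
    rw [Points.map_ofPt, hbase] at e
    exact (Points.schemeHomeo B).injective e ▸ hv
  have hWsep : IsSeparatedSp (subSheaf W) := by
    refine (isSeparatedSp_iff_mor (SpQS.baseStr _)).2 ?_
    rw [show SpQS.baseStr (subSheaf W) = subInc W ≫ SpQS.baseStr X.obj from SpQS.isTerminalBase.hom_ext _ _]
    exact isSeparatedMor_comp (UnivInjMor.isSeparatedMor_of_mono _) ((isSeparatedSp_iff_mor _).1 hsep)
  have hince : RepWith @Etale (subInc W) := repWith_mono (fun _ _ r hr => by
    have : IsOpenImmersion r := hr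
    exact (inferInstance : Etale r)) hinc
  obtain ⟨U, a, ha, has⟩ := hWa.atlas
  have hWN : IsLocNoethSp (subSheaf W) :=
    ⟨U, a, ha, has, isLocallyNoetherian_chart hF hN (repWith_comp ha hince)⟩
  obtain ⟨x', hx'⟩ : Points.ofPt π y ∈ Set.range (Points.map (subInc W)) := by
    rw [range_subInc]
    exact hxW
  obtain ⟨u, hu⟩ := ofPt_surjective has x'
  have hdim : HasAt (fun U u => ringKrullDim ↥(U.presheaf.stalk u) ≤ 1) (subSheaf W) x' := by
    refine ⟨U, a, u, ha, hu, ?_⟩
    obtain ⟨P, p, q, sq⟩ := exists_pullback hF.diag (a ≫ subInc W) π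
    obtain ⟨z, hz₁, hz₂⟩ := (ofPt_eq_iff sq u y).1 (by rw [← hx', ← hu, Points.map_ofPt])
    have hq : RepWith @Etale ((yon S).map q) := repWith_baseChange sq (repWith_comp ha hince)
    have : Etale q.left := (repWith_yon_iff q).1 hq
    have : Flat p.left := hπf ((yon S).map q) (a ≫ subInc W) p hq (repWith_comp ha hince) sq.w.symm
    calc ringKrullDim (U.left.presheaf.stalk u) = ringKrullDim (U.left.presheaf.stalk (p.left z)) := by rw [hz₁]
      _ ≤ ringKrullDim (P.left.presheaf.stalk z) := dim_le_of_generalizing p.left (Flat.generalizingMap p.left) z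
      _ ≤ ringKrullDim (Y.left.presheaf.stalk (q.left z)) := dim_le_of_etale q.left z
      _ ≤ 1 := by rw [hz₂]; exact hy
  obtain ⟨T, j, -, hj, hjs⟩ := exists_affine_nhd' (⟨subSheaf W, hWa⟩ : AlgSp.Space S) hWsep hWN
    (fun {U V} _ _ g g' => isAffine_prod O hO (hrange g) (hrange g'))
    (fun {T} g hT => by
      have : IsAffine O.toScheme := hO
      let l := IsOpenImmersion.lift O.ι T.hom (by rw [Scheme.Opens.range_ι]; exact hrange g)
      have : IsSeparated (l ≫ O.ι) := by rw [IsOpenImmersion.lift_fac]; exact hT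
      have : IsSeparated l := IsSeparated.of_comp l O.ι
      refine ⟨?_⟩
      rw [show terminal.from T.left = l ≫ terminal.from O.toScheme from Subsingleton.elim _ _]
      infer_instance) {x'} (fun x hx => by rw [Finset.mem_singleton] at hx; exact hx ▸ hdim)
  obtain ⟨τ, hτ⟩ := hjs x' (Finset.mem_singleton_self _)
  refine ⟨T, j ≫ subInc W, repWith_comp hj hinc, Points.schemeHomeo T τ, ?_⟩
  rw [← ofPt_eq_map, ← Points.map_ofPt, hτ, hx']

end Groth.Agent.SpFinCover
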