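import Groth.Agent.SpFinCover.Alg
import Groth.Agent.SpChev.Pinch
import Groth.Agent.SpChev.Prod
import Mathlib.AlgebraicGeometry.Morphisms.Affine

/-!
# The descent data of rings of an affine cartesian diagram
-/

set_option autoImplicit false
set_option linter.style.haveILetI false

universe u

open CategoryTheory CategoryTheory.Limits AlgebraicGeometry TensorProduct

namespace Groth.Agent.SpFinCover

variable {U R YU Y₂ : Scheme.{u}} [IsAffine U] [IsAffine R] [IsAffine YU] [IsAffine Y₂]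

/-- a map into an affine scheme with prescribed global functions -/
theorem exists_hom_appTop {X T : Scheme.{u}} [IsAffine X] [IsAffine T] (φ : Γ(T, ⊤) →+* Γ(X, ⊤)) :
    ∃ k : X ⟶ T, k.appTop.hom = φ := by
  refine ⟨X.isoSpec.hom ≫ Spec.map (CommRingCat.ofHom φ) ≫ T.isoSpec.inv, ?_⟩
  have e := (Scheme.Hom.comp_appTop X.isoSpec.hom (Spec.map (CommRingCat.ofHom φ) ≫ T.isoSpec.inv))
  rw [e, Scheme.Hom.comp_appTop]
  ext x
  have h1 : T.isoSpec.inv.appTop ≫ (Spec.map (CommRingCat.ofHom φ)).appTop ≫ X.isoSpec.hom.appTop =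
      CommRingCat.ofHom φ := by
    have e' : T.isoSpec.inv.appTop = (Scheme.ΓSpecIso Γ(T, ⊤)).inv := by
      rw [← Iso.hom_comp_eq_id, ← Scheme.toSpecΓ_appTop, ← Scheme.Hom.comp_appTop, Scheme.isoSpec_inv_toSpecΓ]
      rfl
    rw [e', Scheme.isoSpec_hom, Scheme.toSpecΓ_appTop, Scheme.ΓSpecIso_naturality]
    exact Iso.inv_hom_id_assoc _ _
  exact congr($(h1).hom x)

/-- the rings of a cartesian square with flat projection -/
theorem descRings {p₁ p₂ : R ⟶ U} [Flat p₂] {w : YU ⟶ U} {π₁ π₂ : Y₂ ⟶ YU} {r : Y₂ ⟶ R}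
    (h₁ : π₁ ≫ w = r ≫ p₁) (sq₂ : IsPullback π₂ r w p₂) :
    DescRings w.appTop.hom p₁.appTop.hom p₂.appTop.hom r.appTop.hom π₁.appTop.hom π₂.appTop.hom where
  flat := p₂.flat_appTop
  comm₁ := by
    rw [← CommRingCat.hom_comp, ← CommRingCat.hom_comp, ← Scheme.Hom.comp_appTop, ← Scheme.Hom.comp_appTop, h₁]
  comm₂ := by
    rw [← CommRingCat.hom_comp, ← CommRingCat.hom_comp, ← Scheme.Hom.comp_appTop, ← Scheme.Hom.comp_appTop, sq₂.w]
  span_top d := by
    have h := isPushout_appTop_of_isPullback sq₂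
    letI := p₂.appTop.hom.toAlgebra
    letI := w.appTop.hom.toAlgebra
    have ht := CommRingCat.isPushout_tensorProduct Γ(U, ⊤) Γ(YU, ⊤) Γ(R, ⊤)
    let e := ht.isoPushout ≪≫ h.isoPushout.symm
    have hl : CommRingCat.ofHom Algebra.TensorProduct.includeLeftRingHom ≫ e.hom = π₂.appTop := by
      simp only [e, Iso.trans_hom, Iso.symm_hom]
      exact (ht.inl_isoPushout_hom_assoc _).trans h.inl_isoPushout_inv
    have hr : CommRingCat.ofHom Algebra.TensorProduct.includeRight.toRingHom ≫ e.hom = r.appTop := by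
      simp only [e, Iso.trans_hom, Iso.symm_hom]
      exact (ht.inr_isoPushout_hom_assoc _).trans h.inr_isoPushout_inv
    obtain ⟨z, rfl⟩ := (ConcreteCategory.bijective_of_isIso e.hom).2 d
    induction z using TensorProduct.induction_on with
    | zero => exact ⟨0, Fin.elim0, Fin.elim0, by simp⟩
    | tmul x y =>
      refine ⟨1, fun _ => y, fun _ => x, ?_⟩
      have : x ⊗ₜ[Γ(U, ⊤)] y = ((1 : Γ(YU, ⊤)) ⊗ₜ[Γ(U, ⊤)] y) * (x ⊗ₜ[Γ(U, ⊤)] (1 : Γ(R, ⊤))) := by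
        rw [Algebra.TensorProduct.tmul_mul_tmul, one_mul, mul_one]
      simp only [Finset.univ_unique, Finset.sum_singleton]
      rw [this, map_mul]
      exact congrArg₂ (· * ·) congr($(hr).hom y) congr($(hl).hom x)
    | add a b ha hb =>
      obtain ⟨n, c, f, e₁⟩ := ha
      obtain ⟨m, c', f', e₂⟩ := hb
      exact ⟨n + m, Fin.append c c', Fin.append f f', by rw [map_add, e₁, e₂, Fin.sum_univ_add]; simp⟩

/-- the rings of the triple level -/
theorem tripleRings {Y₃ R₃ : Scheme.{u}} [IsAffine Y₃] [IsAffine R₃] {p₁ p₂ : R ⟶ U} [Flat p₂] {w : YU ⟶ U}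
    {π₁ π₂ : Y₂ ⟶ YU} {r : Y₂ ⟶ R}
    (h₁ : π₁ ≫ w = r ≫ p₁) (sq₂ : IsPullback π₂ r w p₂) {u₁₂ u₂₃ u₁₃ : Y₃ ⟶ Y₂} {v₁₂ v₂₃ v₁₃ : R₃ ⟶ R}
    {y₃ : Y₃ ⟶ R₃} (hb : u₁₂ ≫ π₂ = u₂₃ ≫ π₁) (hf : u₁₃ ≫ π₁ = u₁₂ ≫ π₁) (hl : u₁₃ ≫ π₂ = u₂₃ ≫ π₂)
    (sqR₃ : IsPullback v₁₂ v₂₃ p₂ p₁) (hy₁₂ : y₃ ≫ v₁₂ = u₁₂ ≫ r) (hy₂₃ : y₃ ≫ v₂₃ = u₂₃ ≫ r)
    (hy₁₃ : y₃ ≫ v₁₃ = u₁₃ ≫ r) (sqE : IsPullback (u₁₂ ≫ r) u₂₃ p₂ (π₁ ≫ w)) :
    TripleRings (descRings h₁ sq₂) Γ(Y₃, ⊤) u₁₂.appTop.hom u₂₃.appTop.hom u₁₃.appTop.hom where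
  balanced := by
    rw [← CommRingCat.hom_comp, ← CommRingCat.hom_comp, ← Scheme.Hom.comp_appTop, ← Scheme.Hom.comp_appTop, hb]
  first := by
    rw [← CommRingCat.hom_comp, ← CommRingCat.hom_comp, ← Scheme.Hom.comp_appTop, ← Scheme.Hom.comp_appTop, hf]
  last := by
    rw [← CommRingCat.hom_comp, ← CommRingCat.hom_comp, ← Scheme.Hom.comp_appTop, ← Scheme.Hom.comp_appTop, hl]
  gen c := by
    have h := isPushout_appTop_of_isPullback sqR₃
    letI := p₂.appTop.hom.toAlgebra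
    have key : ∀ d : Γ(R₃, ⊤), ∃ (n : ℕ) (c' c'' : Fin n → Γ(R, ⊤)),
        d = ∑ k, v₁₂.appTop.hom (c' k) * v₂₃.appTop.hom (c'' k) := by
      intro d
      let A : Set Γ(R₃, ⊤) := {d | ∃ (n : ℕ) (c' c'' : Fin n → Γ(R, ⊤)),
        d = ∑ k, v₁₂.appTop.hom (c' k) * v₂₃.appTop.hom (c'' k)}
      have hadd : ∀ x y, x ∈ A → y ∈ A → x + y ∈ A := by
        rintro _ _ ⟨n, a, b, rfl⟩ ⟨m, a', b', rfl⟩
        exact ⟨n + m, Fin.append a a', Fin.append b b', by rw [Fin.sum_univ_add]; simp⟩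
      let A' : Subring Γ(R₃, ⊤) :=
        { carrier := A
          zero_mem' := ⟨0, Fin.elim0, Fin.elim0, by simp⟩
          one_mem' := ⟨1, fun _ => 1, fun _ => 1, by simp⟩
          add_mem' := fun {x y} hx hy => hadd x y hx hy
          neg_mem' := by
            rintro _ ⟨n, a, b, rfl⟩
            exact ⟨n, fun k => -a k, b, by simp [Finset.sum_neg_distrib]⟩
          mul_mem' := by
            rintro _ _ ⟨n, a, b, rfl⟩ ⟨m, a', b', rfl⟩
            refine ⟨n * m, fun k => a (finProdFinEquiv.symm k).1 * a' (finProdFinEquiv.symm k).2,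
              fun k => b (finProdFinEquiv.symm k).1 * b' (finProdFinEquiv.symm k).2, ?_⟩
            rw [Finset.sum_mul_sum, ← Fintype.sum_prod_type', ← finProdFinEquiv.symm.sum_comp]
            refine Finset.sum_congr rfl fun k _ => ?_
            rw [map_mul, map_mul]
            ring }
      have htop : A' = ⊤ := SpChev.subring_eq_top_of_isPushout h A'
        (fun x => ⟨1, fun _ => x, fun _ => 1, by simp⟩) fun y => ⟨1, fun _ => 1, fun _ => y, by simp⟩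
      exact (htop.symm ▸ Subring.mem_top d : d ∈ A')
    obtain ⟨n, c', c'', e⟩ := key (v₁₃.appTop.hom c)
    refine ⟨n, c', c'', ?_⟩
    have e₁ : ∀ x, u₁₂.appTop.hom (r.appTop.hom x) = y₃.appTop.hom (v₁₂.appTop.hom x) := fun x => by
      rw [← CommRingCat.comp_apply, ← CommRingCat.comp_apply, ← Scheme.Hom.comp_appTop, ← Scheme.Hom.comp_appTop,
        hy₁₂]
    have e₂ : ∀ x, u₂₃.appTop.hom (r.appTop.hom x) = y₃.appTop.hom (v₂₃.appTop.hom x) := fun x => by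
      rw [← CommRingCat.comp_apply, ← CommRingCat.comp_apply, ← Scheme.Hom.comp_appTop, ← Scheme.Hom.comp_appTop,
        hy₂₃]
    have e₃ : u₁₃.appTop.hom (r.appTop.hom c) = y₃.appTop.hom (v₁₃.appTop.hom c) := by
      rw [← CommRingCat.comp_apply, ← CommRingCat.comp_apply, ← Scheme.Hom.comp_appTop, ← Scheme.Hom.comp_appTop,
        hy₁₃]
    rw [e₃, e, map_sum]
    simp only [map_mul, e₁, e₂]
  inj := by
    letI := p₂.appTop.hom.toAlgebra
    intro Θ hΘ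
    letI : Algebra Γ(U, ⊤) Γ(Y₂, ⊤) := (π₁.appTop.hom.comp w.appTop.hom).toAlgebra
    have h := isPushout_appTop_of_isPullback sqE
    have h' : IsPushout (CommRingCat.ofHom (algebraMap Γ(U, ⊤) Γ(R, ⊤)))
        (CommRingCat.ofHom (algebraMap Γ(U, ⊤) Γ(Y₂, ⊤))) (u₁₂ ≫ r).appTop u₂₃.appTop := by
      rw [Scheme.Hom.comp_appTop] at h
      exact h
    have ht := CommRingCat.isPushout_tensorProduct Γ(U, ⊤) Γ(R, ⊤) Γ(Y₂, ⊤)
    let e := ht.isoPushout ≪≫ h'.isoPushout.symm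
    have hl' : CommRingCat.ofHom Algebra.TensorProduct.includeLeftRingHom ≫ e.hom = (u₁₂ ≫ r).appTop := by
      simp only [e, Iso.trans_hom, Iso.symm_hom]
      exact (ht.inl_isoPushout_hom_assoc _).trans h'.inl_isoPushout_inv
    have hr' : CommRingCat.ofHom Algebra.TensorProduct.includeRight.toRingHom ≫ e.hom = u₂₃.appTop := by
      simp only [e, Iso.trans_hom, Iso.symm_hom]
      exact (ht.inr_isoPushout_hom_assoc _).trans h'.inr_isoPushout_inv
    have he : ∀ z : Γ(R, ⊤) ⊗[Γ(U, ⊤)] Γ(Y₂, ⊤), Θ z = e.hom.hom z := by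
      intro z
      induction z using TensorProduct.induction_on with
      | zero => rw [map_zero, map_zero]
      | tmul c d =>
        refine (hΘ c d).trans ?_
        have : c ⊗ₜ[Γ(U, ⊤)] d = (c ⊗ₜ[Γ(U, ⊤)] (1 : Γ(Y₂, ⊤))) * ((1 : Γ(R, ⊤)) ⊗ₜ[Γ(U, ⊤)] d) := by
          rw [Algebra.TensorProduct.tmul_mul_tmul, one_mul, mul_one]
        rw [this, map_mul]
        refine congrArg₂ (· * ·) ?_ congr($(hr').hom d).symm
        rw [← CommRingCat.comp_apply, ← Scheme.Hom.comp_appTop]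
        exact congr($(hl').hom c).symm
      | add a b ha hb => rw [map_add, map_add, ha, hb]
    intro a b hab
    rw [he, he] at hab
    exact (ConcreteCategory.bijective_of_isIso e.hom).1 hab

end Groth.Agent.SpFinCover
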