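import Mathlib.RingTheory.RingHom.Flat
import Mathlib.RingTheory.IsTensorProduct
import Mathlib.RingTheory.Noetherian.Basic
import Mathlib.RingTheory.IntegralClosure.IsIntegralClosure.Basic
import Mathlib.RingTheory.Finiteness.Finsupp
import Mathlib.LinearAlgebra.TensorProduct.RightExactness

/-!
# Finitely generated invariant submodules
-/

set_option autoImplicit false
set_option linter.style.haveILetI false

universe u

open TensorProduct

namespace Groth.Agent.SpFinCover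

variable {A C B D : Type u} [CommRing A] [CommRing C] [CommRing B] [CommRing D]

/-- the descent data of rings -/
structure DescRings (α : A →+* B) (p₁ p₂ : A →+* C) (χ : C →+* D) (π₁ π₂ : B →+* D) : Prop where
  flat : p₂.Flat
  comm₁ : χ.comp p₁ = π₁.comp α
  comm₂ : χ.comp p₂ = π₂.comp α
  span_top : ∀ d : D, ∃ (n : ℕ) (c : Fin n → C) (b : Fin n → B), d = ∑ k, χ (c k) * π₂ (b k)

/-- the triple level -/
structure TripleRings {α : A →+* B} {p₁ p₂ : A →+* C} {χ : C →+* D} {π₁ π₂ : B →+* D}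
    (_h : DescRings α p₁ p₂ χ π₁ π₂) (E : Type u) [CommRing E] (i₁₂ i₂₃ q₁₃ : D →+* E) : Prop where
  balanced : i₁₂.comp π₂ = i₂₃.comp π₁
  first : q₁₃.comp π₁ = i₁₂.comp π₁
  last : q₁₃.comp π₂ = i₂₃.comp π₂
  gen : ∀ c : C, ∃ (n : ℕ) (c' c'' : Fin n → C), q₁₃ (χ c) = ∑ k, i₁₂ (χ (c' k)) * i₂₃ (χ (c'' k))
  inj : letI := p₂.toAlgebra
    letI : Module A D := Module.compHom D (π₁.comp α)
    ∀ Θ : C ⊗[A] D →+ E, (∀ c d, Θ (c ⊗ₜ d) = i₁₂ (χ c) * i₂₃ d) → Function.Injective Θ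

/-- membership in the span of `π '' N` over `C` -/
def InSpan (χ : C →+* D) (π : B →+* D) (N : Set B) (d : D) : Prop :=
  ∃ (n : ℕ) (c : Fin n → C) (b : Fin n → B), (∀ k, b k ∈ N) ∧ d = ∑ k, χ (c k) * π (b k)

theorem inSpan_iff {χ : C →+* D} {π : B →+* D} {N : Set B} {d : D} :
    InSpan χ π N d ↔ (letI := χ.toAlgebra; d ∈ Submodule.span C (π '' N)) := by
  letI := χ.toAlgebra
  constructor
  · rintro ⟨n, c, b, hb, rfl⟩
    exact Submodule.sum_mem _ fun k _ => Submodule.smul_mem _ (c k) (Submodule.subset_span ⟨b k, hb k, rfl⟩)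
  · intro hd
    obtain ⟨n, c, g, e⟩ := Submodule.mem_span_set'.1 hd
    choose b hb hbg using fun k => (g k).2
    refine ⟨n, c, b, hb, e.symm.trans (Finset.sum_congr rfl fun k _ => ?_)⟩
    show χ (c k) * (g k : D) = _
    rw [hbg]

set_option maxHeartbeats 1000000 in
/-- every finite set lies in a finitely generated invariant submodule -/
theorem exists_fg_invariant [IsNoetherianRing A] {α : A →+* B} {p₁ p₂ : A →+* C} {χ : C →+* D}
    {π₁ π₂ : B →+* D} (h : DescRings α p₁ p₂ χ π₁ π₂) {E : Type u} [CommRing E] {i₁₂ i₂₃ q₁₃ : D →+* E}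
    (h3 : TripleRings h E i₁₂ i₂₃ q₁₃) (s : Finset B) :
    letI := α.toAlgebra
    ∃ M : Submodule A B, M.FG ∧ (∀ b ∈ s, b ∈ M) ∧ ∀ m ∈ M, InSpan χ π₂ M (π₁ m) := by
  classical
  letI := α.toAlgebra
  letI := p₂.toAlgebra
  letI : Module A D := Module.compHom D (π₁.comp α)
  have hflat : Module.Flat A C := h.flat
  choose n c b hb using fun m : ↥s => h.span_top (π₁ m.1)
  let T : Set B := ↑s ∪ ⋃ m : ↥s, Set.range (b m)
  have hT : T.Finite := s.finite_toSet.union (Set.finite_iUnion fun m => Set.finite_range _)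
  let N : Submodule A B := Submodule.span A T
  have hN : N.FG := Submodule.fg_span hT
  -- the quotient
  letI := χ.toAlgebra
  let N₂ : AddSubgroup D := (Submodule.span C (π₂ '' (N : Set B))).toAddSubgroup
  have hN₂ : ∀ (a : A) (d : D), d ∈ N₂ → π₁ (α a) * d ∈ N₂ := fun a d hd => by
    show _ ∈ Submodule.span C (π₂ '' (N : Set B))
    rw [← RingHom.comp_apply π₁ α, ← h.comm₁]
    exact Submodule.smul_mem _ (p₁ a) hd
  let N₂' : Submodule A D := { N₂ with smul_mem' := fun a d hd => hN₂ a d hd }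
  let π₁N : N →ₗ[A] D :=
    { toFun := fun x => π₁ x.1
      map_add' := fun x y => map_add π₁ _ _
      map_smul' := fun a x => by
        show π₁ (α a * x.1) = π₁ (α a) * π₁ x.1
        rw [map_mul] }
  let Φ : N →ₗ[A] (D ⧸ N₂') := (Submodule.mkQ N₂').comp π₁N
  let M : Submodule A B := (LinearMap.ker Φ).map N.subtype
  have hMmem : ∀ m, m ∈ M ↔ m ∈ N ∧ InSpan χ π₂ N (π₁ m) := fun m => by
    constructor
    · rintro ⟨x, hx, rfl⟩
      refine ⟨x.2, inSpan_iff.2 ?_⟩
      exact (Submodule.Quotient.mk_eq_zero _).1 hx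
    · rintro ⟨hm, hs⟩
      exact ⟨⟨m, hm⟩, (Submodule.Quotient.mk_eq_zero N₂').2 (inSpan_iff.1 hs), rfl⟩
  have : IsNoetherian A N := isNoetherian_of_fg_of_noetherian N hN
  refine ⟨M, (IsNoetherian.noetherian (LinearMap.ker Φ)).map _, fun m hm => (hMmem m).2
    ⟨Submodule.subset_span (Or.inl hm), n ⟨m, hm⟩, c ⟨m, hm⟩, b ⟨m, hm⟩,
      fun k => Submodule.subset_span (Or.inr (Set.mem_iUnion.2 ⟨⟨m, hm⟩, k, rfl⟩)), hb ⟨m, hm⟩⟩, fun m hm => ?_⟩
  obtain ⟨hmN, l, cm, bm, hbm, hm'⟩ := (hMmem m).1 hm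
  let ζ : C ⊗[A] N := ∑ k, cm k ⊗ₜ ⟨bm k, hbm k⟩
  -- the comparison map
  let Θ : C ⊗[A] D →+ E := TensorProduct.liftAddHom
    (AddMonoidHom.mk' (fun c => AddMonoidHom.mk' (fun d => i₁₂ (χ c) * i₂₃ d) fun x y => by rw [map_add, mul_add])
      fun x y => AddMonoidHom.ext fun d => by simp [add_mul])
    fun a c d => by
      show i₁₂ (χ (p₂ a * c)) * i₂₃ d = i₁₂ (χ c) * i₂₃ (π₁ (α a) * d)
      have e₁ : χ (p₂ a) = π₂ (α a) := RingHom.congr_fun h.comm₂ a
      have e₂ : i₁₂ (π₂ (α a)) = i₂₃ (π₁ (α a)) := RingHom.congr_fun h3.balanced (α a)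
      rw [map_mul, map_mul, map_mul, e₁, e₂]
      ring
  have hΘ : Function.Injective Θ := h3.inj Θ fun c d => rfl
  -- `ζ` dies in the quotient
  have hζ : LinearMap.lTensor C Φ ζ = 0 := by
    have e : LinearMap.lTensor C Φ ζ = LinearMap.lTensor C N₂'.mkQ (LinearMap.lTensor C π₁N ζ) := by
      rw [← LinearMap.comp_apply, ← LinearMap.lTensor_comp]
    rw [e]
    -- the image is a combination of tensors of the span
    have hval : Θ (LinearMap.lTensor C π₁N ζ) = q₁₃ (π₁ m) := by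
      simp only [ζ, map_sum, LinearMap.lTensor_tmul]
      rw [show q₁₃ (π₁ m) = i₁₂ (π₁ m) from RingHom.congr_fun h3.first m]
      show _ = i₁₂ (π₁ m)
      rw [hm', map_sum]
      refine Finset.sum_congr rfl fun k _ => ?_
      show i₁₂ (χ (cm k)) * i₂₃ (π₁ (bm k)) = i₁₂ (χ (cm k) * π₂ (bm k))
      rw [map_mul]
      congr 1
      exact (RingHom.congr_fun h3.balanced (bm k)).symm
    choose ng c' c'' hgen using fun k => h3.gen (cm k)
    let w : C ⊗[A] D := ∑ k, ∑ i, c' k i ⊗ₜ (χ (c'' k i) * π₂ (bm k))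
    have hw : Θ w = q₁₃ (π₁ m) := by
      simp only [w, map_sum]
      rw [hm', map_sum]
      refine Finset.sum_congr rfl fun k _ => ?_
      rw [map_mul, hgen, Finset.sum_mul]
      refine Finset.sum_congr rfl fun i _ => ?_
      show i₁₂ (χ (c' k i)) * i₂₃ (χ (c'' k i) * π₂ (bm k)) = _
      rw [map_mul, show q₁₃ (π₂ (bm k)) = i₂₃ (π₂ (bm k)) from RingHom.congr_fun h3.last (bm k), mul_assoc]
    rw [hΘ (hval.trans hw.symm)]
    simp only [w, map_sum, LinearMap.lTensor_tmul]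
    refine Finset.sum_eq_zero fun k _ => Finset.sum_eq_zero fun i _ => ?_
    rw [show N₂'.mkQ (χ (c'' k i) * π₂ (bm k)) = 0 from (Submodule.Quotient.mk_eq_zero N₂').2
      (Submodule.smul_mem _ (c'' k i) (Submodule.subset_span ⟨bm k, hbm k, rfl⟩)), TensorProduct.tmul_zero]
  -- so it comes from `M`
  have hex : Function.Exact (LinearMap.lTensor C (LinearMap.ker Φ).subtype) (LinearMap.lTensor C Φ) :=
    Module.Flat.lTensor_exact (R := A) (N := ↥(LinearMap.ker Φ)) (N' := ↥N) (N'' := D ⧸ N₂') C (LinearMap.exact_subtype_ker_map Φ)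
  obtain ⟨ξ, hξ⟩ := (hex ζ).1 hζ
  let ev : C ⊗[A] N →+ D := TensorProduct.liftAddHom
    (AddMonoidHom.mk' (fun c => AddMonoidHom.mk' (fun x : N => χ c * π₂ x.1) fun x y => by
      show χ c * π₂ (x.1 + y.1) = _
      rw [map_add, mul_add]) fun x y => AddMonoidHom.ext fun d => by simp [add_mul])
    fun a c x => by
      show χ (p₂ a * c) * π₂ x.1 = χ c * π₂ (α a * x.1)
      have e₁ : χ (p₂ a) = π₂ (α a) := RingHom.congr_fun h.comm₂ a
      rw [map_mul, map_mul, e₁]
      ring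
  have hev : ev ζ = π₁ m := by
    simp only [ζ, map_sum]
    exact hm'.symm
  rw [← hev, ← hξ]
  clear hξ
  refine inSpan_iff.2 ?_
  induction ξ using TensorProduct.induction_on with
  | zero => simp
  | tmul c x =>
    show χ c * π₂ x.1.1 ∈ _
    exact Submodule.smul_mem _ c (Submodule.subset_span ⟨x.1.1, ⟨x.1, x.2, rfl⟩, rfl⟩)
  | add x y hx hy =>
    rw [map_add, map_add]
    exact Submodule.add_mem _ hx hy

set_option maxHeartbeats 1000000 in
/-- every finite set lies in a finite invariant subalgebra -/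
theorem exists_finite_invariant [IsNoetherianRing A] {α : A →+* B} (hα : α.IsIntegral) {p₁ p₂ : A →+* C}
    {χ : C →+* D} {π₁ π₂ : B →+* D} (h : DescRings α p₁ p₂ χ π₁ π₂) {E : Type u} [CommRing E]
    {i₁₂ i₂₃ q₁₃ : D →+* E} (h3 : TripleRings h E i₁₂ i₂₃ q₁₃) (s : Finset B) :
    letI := α.toAlgebra
    ∃ B' : Subalgebra A B, B'.toSubmodule.FG ∧ (∀ b ∈ s, b ∈ B') ∧ ∀ m ∈ B', InSpan χ π₂ B' (π₁ m) := by
  letI := α.toAlgebra
  obtain ⟨M, hM, hsM, hinv⟩ := exists_fg_invariant h h3 s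
  obtain ⟨T, rfl⟩ := hM
  let B' := Algebra.adjoin A (T : Set B)
  refine ⟨B', fg_adjoin_of_finite T.finite_toSet fun x _ => hα x,
    fun b hb => Algebra.span_le_adjoin A _ (hsM b hb), ?_⟩
  letI := χ.toAlgebra
  let P : Subalgebra C D := Algebra.adjoin C (π₂ '' (B' : Set B))
  have hP : ∀ d, d ∈ P ↔ InSpan χ π₂ B' d := fun d => by
    rw [inSpan_iff]
    show d ∈ Subalgebra.toSubmodule P ↔ _
    rw [Algebra.adjoin_eq_span]
    have e : (Submonoid.closure (π₂ '' (B' : Set B)) : Set D) = π₂ '' (B' : Set B) := by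
      refine Set.Subset.antisymm (fun x hx => ?_) Submonoid.subset_closure
      induction hx using Submonoid.closure_induction with
      | mem x hx => exact hx
      | one => exact ⟨1, one_mem B', map_one _⟩
      | mul x y _ _ hx hy =>
        obtain ⟨a, ha, rfl⟩ := hx
        obtain ⟨b, hb, rfl⟩ := hy
        exact ⟨a * b, mul_mem ha hb, map_mul _ _ _⟩
    rw [e]
  intro m hm
  rw [← hP]
  induction hm using Algebra.adjoin_induction with
  | mem x hx =>
    rw [hP]
    obtain ⟨n, c, b, hb, e⟩ := hinv x (Submodule.subset_span hx)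
    exact ⟨n, c, b, fun k => Algebra.span_le_adjoin A _ (hb k), e⟩
  | algebraMap a =>
    show π₁ (α a) ∈ P
    rw [← RingHom.comp_apply π₁ α, ← h.comm₁]
    exact P.algebraMap_mem (p₁ a)
  | add x y _ _ hx hy => rw [map_add]; exact add_mem hx hy
  | mul x y _ _ hx hy => rw [map_mul]; exact mul_mem hx hy

end Groth.Agent.SpFinCover
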