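import Groth.Agent.SpFinCover.Relation
import Groth.Agent.SpChev.FinQACore
import Groth.Agent.AlgSpLib.RepDescent
import Groth.Agent.AlgSpLib.SheafLemmas

/-!
# Separated noetherian spaces have finite covers by schemes
-/

set_option autoImplicit false
set_option linter.style.haveILetI false

universe u

open CategoryTheory CategoryTheory.Limits AlgebraicGeometry

set_option backward.isDefEq.respectTransparency false

namespace Groth.Agent.SpFinCover

open _root_.AlgSp Groth.Agent.AlgSpLib Groth.Agent.SpChev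

variable {S : Scheme.{u}}

set_option maxHeartbeats 4000000 in
/-- an integral surjection from a quasi-compact scheme factors through a finite one from a scheme -/
theorem exists_finite_cover {W : Sp S} (hW : IsAlgSpace W) {U R : Over S} [IsAffine U.left]
    [IsLocallyNoetherian U.left] [IsAffine R.left] {a : (yon S).obj U ⟶ W} (hae : RepWith @Etale a)
    (has : RepWith @Surjective a) {p₁ p₂ : R ⟶ U} (sqR : IsPullback ((yon S).map p₁) ((yon S).map p₂) a a)
    {Y : Over S} [CompactSpace Y.left] {g : (yon S).obj Y ⟶ W} (hg : RepWith @IsIntegralHom g)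
    (hgs : Function.Surjective (Points.ofPt g)) :
    ∃ (T : Over S) (f : (yon S).obj T ⟶ W) (k : Y ⟶ T), RepWith @IsFinite f ∧
      Function.Surjective (Points.ofPt f) ∧ (yon S).map k ≫ f = g ∧ Function.Surjective k.left := by
  classical
  obtain ⟨YU, eY', w, sqY, hw⟩ := exists_repWith hg a
  obtain ⟨eY, rfl⟩ := exists_map_eq eY'
  have : IsIntegralHom w.left := hw
  have : IsAffine YU.left := isAffine_of_isAffineHom w.left
  have heYe : RepWith @Etale ((yon S).map eY) := repWith_baseChange sqY.flip hae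
  have heYs : RepWith @Surjective ((yon S).map eY) := repWith_baseChange sqY.flip has
  have : Etale eY.left := (repWith_yon_iff eY).1 heYe
  have : Surjective eY.left := (repWith_yon_iff eY).1 heYs
  have : IsAffineHom eY.left := (repWith_yon_iff eY).1 (repWith_baseChange sqY.flip
    (SpDesc.repWith_of_chart @IsAffineHom hW hae.1 hae has sqR (isAffineHom_of_isAffine p₂.left)))
  obtain ⟨Y₂, π₁, π₂, sq₂⟩ := exists_pullback (IsAlgSpace.yon_obj Y).diag ((yon S).map eY) ((yon S).map eY)
  -- the functions cutting out the affine pieces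
  let V := Y.left.affineCover.finiteSubcover
  have hfin : ∀ i : V.I₀, ∃ t : Finset Γ(YU.left, ⊤),
      (eY.left ⁻¹ᵁ (V.f i).opensRange : Set YU.left) = ⋃ b ∈ t, (YU.left.basicOpen b : Set YU.left) := fun i => by
    have hc : IsCompact (eY.left ⁻¹ᵁ (V.f i).opensRange : Set YU.left) :=
      ((isAffineOpen_opensRange (V.f i)).preimage eY.left).isCompact
    obtain ⟨t, ht⟩ := hc.elim_finite_subcover
      (fun b : {b : Γ(YU.left, ⊤) // YU.left.basicOpen b ≤ eY.left ⁻¹ᵁ (V.f i).opensRange} =>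
        (YU.left.basicOpen b.1 : Set YU.left)) (fun b => (YU.left.basicOpen b.1).isOpen) (fun y hy => by
        obtain ⟨b, hb, hyb⟩ := (isAffineOpen_top YU.left).exists_basicOpen_le ⟨y, hy⟩ (trivial : y ∈ (⊤ : YU.left.Opens))
        exact Set.mem_iUnion.2 ⟨⟨b, hb⟩, hyb⟩)
    refine ⟨t.image Subtype.val, Set.Subset.antisymm (fun y hy => ?_) ?_⟩
    · obtain ⟨b, hb, hyb⟩ := Set.mem_iUnion₂.1 (ht hy)
      exact Set.mem_iUnion₂.2 ⟨b.1, Finset.mem_image_of_mem _ hb, hyb⟩
    · refine Set.iUnion₂_subset fun b hb => ?_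
      obtain ⟨b', -, rfl⟩ := Finset.mem_image.1 hb
      exact b'.2
  choose t ht using hfin
  have : Finite V.I₀ := inferInstance
  let := Fintype.ofFinite V.I₀
  obtain ⟨TU, T₂, v, h, rT, t₁, t₂, h₂, hTU, hv, hhs, hhv, hrel, ht₁e, ht₂e, ht₁r, ht₂r, sqT', h₂t₁, h₂t₂, hsB,
    hdiag⟩ := exists_finite_datum hW hae sqR sqY hw sq₂ (Finset.univ.biUnion t)
  -- the quotient
  let T : Sp S := coequalizer ((yon S).map t₁) ((yon S).map t₂)
  let π : (yon S).obj TU ⟶ T := coequalizer.π _ _
  have hπw : (yon S).map t₁ ≫ π = (yon S).map t₂ ≫ π := coequalizer.condition _ _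
  have hπc : IsColimit (Cofork.ofπ π hπw) := coequalizerIsCoequalizer _ _
  have sqπ : IsPullback ((yon S).map t₁) ((yon S).map t₂) π π := isPullback_of_coequalizer hrel hπc
  have hfw : (yon S).map t₁ ≫ (yon S).map v ≫ a = (yon S).map t₂ ≫ (yon S).map v ≫ a := by
    rw [← Functor.map_comp_assoc, ← Functor.map_comp_assoc, ht₁r, ht₂r, Functor.map_comp_assoc,
      Functor.map_comp_assoc, sqR.w]
  let f : T ⟶ W := coequalizer.desc _ hfw
  have hπf : π ≫ f = (yon S).map v ≫ a := coequalizer.π_desc _ _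
  -- the chart of the quotient
  let κ : (yon S).obj TU ⟶ pullback f a := pullback.lift π ((yon S).map v) hπf
  have hκm : Mono κ := mono_of_points κ fun T' x y e => by
    obtain ⟨x, rfl⟩ := exists_map_eq x
    obtain ⟨y, rfl⟩ := exists_map_eq y
    have e₁ : (yon S).map x ≫ π = (yon S).map y ≫ π := by
      simpa [κ] using congrArg (· ≫ pullback.fst f a) e
    have e₂ : x ≫ v = y ≫ v := (yon S).map_injective (by
      simpa [κ] using congrArg (· ≫ pullback.snd f a) e)
    obtain ⟨r, hr⟩ := exists_map_eq (sqπ.lift ((yon S).map x) ((yon S).map y) e₁)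
    have hr₁ : r ≫ t₁ = x := (yon S).map_injective (by rw [Functor.map_comp, hr, sqπ.lift_fst])
    have hr₂ : r ≫ t₂ = y := (yon S).map_injective (by rw [Functor.map_comp, hr, sqπ.lift_snd])
    obtain ⟨d, hd₁, hd₂, hd⟩ := hdiag T' x
    have hrd : r = 𝟙 T' ≫ d := hd T' r (𝟙 T') (by rw [← ht₁r, reassoc_of% hr₁, Category.id_comp])
      (by rw [← ht₂r, reassoc_of% hr₂, Category.id_comp, e₂]) (by rw [hr₁, Category.id_comp])
    rw [Category.id_comp] at hrd
    rw [← hd₂, ← hrd, hr₂]
  have hπl : Sheaf.IsLocallySurjective π := (Sheaf.isLocallySurjective_iff_epi _).2 inferInstance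
  have hκe : Epi κ := by
    have hWU : IsPullback ((yon S).map t₁) ((yon S).map rT ≫ (yon S).map p₂) ((yon S).map v ≫ a) a :=
      (isPullback_yon_iff.2 sqT').paste_vert sqR
    have hb : ((yon S).map t₁ ≫ π) ≫ f = ((yon S).map rT ≫ (yon S).map p₂) ≫ a := by
      rw [Category.assoc, hπf, hWU.w]
    have sqB : IsPullback (pullback.lift _ _ hb) ((yon S).map t₁) (pullback.fst f a) π := by
      refine (IsPullback.of_right ?_ ?_ (IsPullback.of_hasPullback f a).flip).flip.flip
      · rw [pullback.lift_snd, hπf]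
        exact hWU.flip
      · exact pullback.lift_fst _ _ _
    have := isLocallySurjective_of_isPullback sqB
    have : Epi (pullback.lift _ _ hb) := (Sheaf.isLocallySurjective_iff_epi _).1 this
    refine epi_of_epi_fac (f := (yon S).map t₂) (h := pullback.lift _ _ hb) ?_
    apply pullback.hom_ext
    · rw [Category.assoc, pullback.lift_fst, pullback.lift_fst, hπw]
    · rw [Category.assoc, pullback.lift_snd, pullback.lift_snd, ← Functor.map_comp, ← Functor.map_comp, ht₂r]
  have : IsIso κ := isIso_of_mono_of_epi κ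
  have sqC : IsPullback π ((yon S).map v) f a := IsPullback.of_iso_pullback ⟨hπf⟩ (asIso κ)
    (pullback.lift_fst _ _ _) (pullback.lift_snd _ _ _)
  have hfr : Representable f := representable_of_indQA f (fun {T'} ξ => by
      obtain ⟨Q, l, q, sq⟩ := exists_pullback hW.diag a ξ
      have : Etale q.left := (repWith_yon_iff q).1 (repWith_baseChange sq hae)
      have : Surjective q.left := (repWith_yon_iff q).1 (repWith_baseChange sq has)
      exact ⟨Q, q, (yon S).map l, inferInstance, inferInstance, inferInstance, sq.w⟩) sqC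
    (repWith_mono (fun _ _ r hr => have : IsFinite r := hr; indQA_of_isAffineHom r) ((repWith_yon_iff v).2 hv))
  have hffin : RepWith @IsFinite f := SpDesc.repWith_of_chart @IsFinite hW hfr hae has sqC hv
  have hT : IsAlgSpace T := isAlgSpace_of_repBySp (Representable.repBySp hfr) hW
  have hπe : RepWith @Etale π := repWith_baseChange sqC.flip hae
  have hπs : RepWith @Surjective π := repWith_baseChange sqC.flip has
  -- the map from the scheme
  have : Sheaf.IsLocallySurjective ((yon S).map eY) := isLocallySurjective_of_atlas heYe heYs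
  obtain ⟨hcY⟩ := isColimit_of_isPullback sq₂
  have hkw : (yon S).map π₁ ≫ (yon S).map h ≫ π = (yon S).map π₂ ≫ (yon S).map h ≫ π := by
    rw [← Functor.map_comp_assoc, ← Functor.map_comp_assoc, ← h₂t₁, ← h₂t₂, Functor.map_comp_assoc,
      Functor.map_comp_assoc, hπw]
  let k₀ : (yon S).obj Y ⟶ T := hcY.desc (Cofork.ofπ _ hkw)
  have hk₀ : (yon S).map eY ≫ k₀ = (yon S).map h ≫ π :=
    hcY.fac (Cofork.ofπ _ hkw) WalkingParallelPair.one
  have : Epi ((yon S).map eY) := (Sheaf.isLocallySurjective_iff_epi _).1 inferInstance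
  have hkf : k₀ ≫ f = g := (cancel_epi ((yon S).map eY)).1 (by
    rw [reassoc_of% hk₀, hπf, ← Functor.map_comp_assoc, hhv, sqY.w])
  have sqK : IsPullback ((yon S).map eY) ((yon S).map h) k₀ π := by
    refine IsPullback.of_bot ?_ hk₀ sqC
    rw [hkf, ← Functor.map_comp, hhv]
    exact sqY
  have hfs : IsSeparatedMor f := (isSeparatedMor_iff_repWith hT hW hfr).2 (repWith_mono (fun _ _ r hr => by
    have : IsFinite r := hr
    exact (inferInstance : IsSeparated r)) hffin)
  have hgc : RepWith @UniversallyClosed g := repWith_mono (fun _ _ r hr => by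
    have : IsIntegralHom r := hr
    exact (inferInstance : UniversallyClosed r)) hg
  have hkc : IsUnivClosedMor k₀ := ((isUnivClosedMor_and_proper_of_comp (IsAlgSpace.yon_obj Y) hT hW k₀ g f hkf
    hfs).1 ((isUnivClosedMor_iff_repWith hgc.1).2 hgc)).1
  have hkr : Representable k₀ := Functor.relativelyRepresentable.of_diag hT.diag _
  have hkc' : RepWith @UniversallyClosed k₀ := (isUnivClosedMor_iff_repWith hkr).1 hkc
  have hks : Function.Surjective (Points.ofPt k₀) := fun z => by
    obtain ⟨y, rfl⟩ := ofPt_surjective hπs z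
    obtain ⟨x, rfl⟩ := hhs y
    exact ⟨eY.left x, by rw [← ofPt_comp, hk₀, ofPt_comp]⟩
  -- affine pieces
  let Wi : V.I₀ → Set (Points T) := fun i => (Points.ofPt k₀ '' ((V.f i).opensRange : Set Y.left)ᶜ)ᶜ
  have hWo : ∀ i, IsOpen (Wi i) := fun i =>
    (isClosedMap_ofPt_of_univClosed hT hkc' _ (V.f i).opensRange.isOpen.isClosed_compl).isOpen_compl
  have hpre : ∀ i, Points.ofPt k₀ ⁻¹' Wi i = ((V.f i).opensRange : Set Y.left) := fun i => by
    ext y
    refine ⟨fun hy => by_contra fun h' => hy ⟨y, h', rfl⟩, fun hy => ?_⟩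
    rintro ⟨y', hy', e⟩
    obtain ⟨z, rfl⟩ := eY.left.surjective y
    obtain ⟨z', hz'₁, hz'₂⟩ := exists_point_of_isPullback_yon sqK y' (h.left z) (by
      rw [e, ← ofPt_comp, hk₀, ofPt_comp])
    refine hy' ?_
    rw [← hz'₁]
    have hz : z ∈ (↑(eY.left ⁻¹ᵁ (V.f i).opensRange) : Set YU.left) := hy
    show z' ∈ (↑(eY.left ⁻¹ᵁ (V.f i).opensRange) : Set YU.left)
    rw [ht i] at hz ⊢
    obtain ⟨b, hb, hzb⟩ := Set.mem_iUnion₂.1 hz
    refine Set.mem_iUnion₂.2 ⟨b, hb, ?_⟩
    obtain ⟨b', rfl⟩ := hsB b (Finset.mem_biUnion.2 ⟨i, Finset.mem_univ _, hb⟩)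
    rw [← Scheme.preimage_basicOpen_top] at hzb ⊢
    show h.left z' ∈ TU.left.basicOpen b'
    rw [hz'₂]
    exact hzb
  have hWaff : ∀ i, IsAff (subSheaf (Wi i)) := fun i => by
    obtain ⟨g', hg'⟩ := exists_factor_subInc (W := Wi i) ((yon S).map (Over.homMk (V.f i).opensRange.ι rfl :
      Over.mk ((V.f i).opensRange.ι ≫ Y.hom) ⟶ Y) ≫ k₀) fun y => by
      obtain ⟨z, rfl⟩ := (Points.schemeHomeo _).surjective y
      rw [← ofPt_eq_map, ofPt_comp]
      show z.1 ∈ Points.ofPt k₀ ⁻¹' Wi i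
      rw [hpre i]
      exact z.2
    have hg'c : RepWith @UniversallyClosed g' :=
      repWith_baseChange (isPullback_subInc_of_preimage (hWo i) _ (hpre i) hg') hkc'
    refine isAff_of_univClosed_surj (isAlgSpace_subSheaf hT (hWo i))
      ⟨Over.mk ((V.f i).opensRange.ι ≫ Y.hom), isAffineOpen_opensRange (V.f i), ⟨Iso.refl _⟩⟩ g'
      ((isUnivClosedMor_iff_repWith hg'c.1).2 hg'c) fun y => ?_
    obtain ⟨z, hz⟩ := hks (Points.map (subInc (Wi i)) y)
    have hzi : z ∈ (V.f i).opensRange := by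
      show z ∈ ((V.f i).opensRange : Set Y.left)
      rw [← hpre i]
      show Points.ofPt k₀ z ∈ Wi i
      rw [hz]
      exact map_subInc_mem y
    refine ⟨Points.schemeHomeo _ (⟨z, hzi⟩ : (V.f i).opensRange.toScheme),
      SchImg.injective_map_of_mono (i := subInc (Wi i)) ?_⟩
    rw [← Points.map_comp, hg', ← ofPt_eq_map, ofPt_comp, ← hz]
    rfl
  choose Q hQa hQ using hWaff
  have hcov : ∀ z : Points T, ∃ i : ULift.{u} V.I₀, z ∈ Wi i.down := fun z => by
    obtain ⟨y, rfl⟩ := hks z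
    obtain ⟨y', hy'⟩ := V.covers y
    refine ⟨⟨V.idx y⟩, ?_⟩
    show y ∈ Points.ofPt k₀ ⁻¹' Wi _
    rw [hpre]
    exact ⟨y', hy'⟩
  obtain ⟨T', ⟨θ⟩⟩ := exists_iso_yon_of_open_cover hT (fun i : ULift.{u} V.I₀ => Q i.down)
    (fun i => (hQ i.down).some.hom ≫ subInc (Wi i.down))
    (fun i => (repWith_iso_comp_iff _ _).2 (repWith_subInc (hWo i.down))) (fun z => by
      obtain ⟨i, hi⟩ := hcov z
      obtain ⟨y, hy⟩ := (range_subInc (Wi i.down)).symm ▸ hi
      exact ⟨i, Points.map (hQ i.down).some.inv y, by rw [← Points.map_comp, Iso.inv_hom_id_assoc, hy]⟩)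
  obtain ⟨k, hk⟩ := exists_map_eq (k₀ ≫ θ.hom)
  refine ⟨T', θ.inv ≫ f, k, (repWith_iso_comp_iff _ _).2 hffin, fun z => ?_, ?_, fun z => ?_⟩
  · obtain ⟨y, rfl⟩ := hgs z
    exact ⟨k.left y, by rw [← ofPt_comp, hk, Category.assoc, Iso.hom_inv_id_assoc, hkf]⟩
  · rw [hk, Category.assoc, Iso.hom_inv_id_assoc, hkf]
  · obtain ⟨y, hy⟩ := hks (Points.ofPt θ.inv z)
    refine ⟨y, (Points.schemeHomeo T').injective ?_⟩
    rw [← Points.map_yon_map_apply, hk, Points.map_comp, ← ofPt_eq_map, hy, Points.map_ofPt, Iso.inv_hom_id]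
    rfl

end Groth.Agent.SpFinCover
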