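import Groth.Agent.SpFinCover.Affines
import Groth.Agent.SpChev.FinQABasic

/-!
# The finite descent datum
-/

set_option autoImplicit false
set_option linter.style.haveILetI false

universe u

open CategoryTheory CategoryTheory.Limits AlgebraicGeometry

set_option backward.isDefEq.respectTransparency false

namespace Groth.Agent.SpFinCover

open _root_.AlgSp Groth.Agent.AlgSpLib

variable {S : Scheme.{u}}

theorem eq_of_appTop_injective {X' X T : Scheme.{u}} [IsAffine T] (h : X' ⟶ X) (hh : Function.Injective h.appTop)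
    {k k' : X ⟶ T} (e : h ≫ k = h ≫ k') : k = k' := by
  refine ext_of_isAffine (CommRingCat.hom_ext (RingHom.ext fun x => hh ?_))
  have := congrArg (fun m : X' ⟶ T => m.appTop.hom x) e
  simp only [Scheme.Hom.comp_appTop, CommRingCat.hom_comp, RingHom.comp_apply] at this
  exact this

theorem over_eq_of_appTop_injective {X' X T : Over S} [IsAffine T.left] (h : X' ⟶ X)
    (hh : Function.Injective h.left.appTop) {k k' : X ⟶ T} (e : h ≫ k = h ≫ k') : k = k' :=
  Over.OverMorphism.ext (eq_of_appTop_injective h.left hh (congrArg (fun m : X' ⟶ T => m.left) e))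

set_option maxHeartbeats 4000000 in
/-- an integral scheme over an affine chart with descent datum has finite quotients of the datum -/
theorem exists_finite_datum {W Y : Sp S} (hW : IsAlgSpace W) {g : Y ⟶ W} {U R : Over S} [IsAffine U.left]
    [IsLocallyNoetherian U.left] [IsAffine R.left] {a : (yon S).obj U ⟶ W} (ha : RepWith @Etale a)
    {p₁ p₂ : R ⟶ U} (sqR : IsPullback ((yon S).map p₁) ((yon S).map p₂) a a) {YU : Over S}
    {eY : (yon S).obj YU ⟶ Y} {w : YU ⟶ U} (sqY : IsPullback eY ((yon S).map w) g a) (hw : IsIntegralHom w.left)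
    {Y₂ : Over S} {π₁ π₂ : Y₂ ⟶ YU} (sq₂ : IsPullback ((yon S).map π₁) ((yon S).map π₂) eY eY)
    (s : Finset Γ(YU.left, ⊤)) :
    ∃ (TU T₂ : Over S) (v : TU ⟶ U) (h : YU ⟶ TU) (rT : T₂ ⟶ R) (t₁ t₂ : T₂ ⟶ TU) (h₂ : Y₂ ⟶ T₂),
      IsAffine TU.left ∧ IsFinite v.left ∧ Function.Surjective h.left ∧ h ≫ v = w ∧
      IsEqvRel t₂ t₁ ∧ Etale t₁.left ∧ Etale t₂.left ∧ t₁ ≫ v = rT ≫ p₁ ∧ t₂ ≫ v = rT ≫ p₂ ∧
      IsPullback t₁.left rT.left v.left p₁.left ∧
      h₂ ≫ t₁ = π₁ ≫ h ∧ h₂ ≫ t₂ = π₂ ≫ h ∧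
      (∀ b ∈ s, ∃ b' : Γ(TU.left, ⊤), h.left.appTop b' = b) ∧
      (∀ T (x : T ⟶ TU) , ∃ d : T ⟶ T₂, d ≫ t₁ = x ∧ d ≫ t₂ = x ∧ ∀ T' (r : T' ⟶ T₂) (z : T' ⟶ T),
        r ≫ rT ≫ p₁ = z ≫ x ≫ v → r ≫ rT ≫ p₂ = z ≫ x ≫ v → r ≫ t₁ = z ≫ x → r = z ≫ d) := by
  classical
  have hp₁e : Etale p₁.left := (repWith_yon_iff p₁).1 (repWith_baseChange sqR.flip ha)
  have hp₂e : Etale p₂.left := (repWith_yon_iff p₂).1 (repWith_baseChange sqR ha)
  have : IsAffine YU.left := isAffine_of_isAffineHom w.left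
  -- the projection squares
  obtain ⟨r, hr⟩ := exists_map_eq (sqR.lift ((yon S).map (π₁ ≫ w)) ((yon S).map (π₂ ≫ w)) (by
    rw [Functor.map_comp, Functor.map_comp, Category.assoc, Category.assoc, ← sqY.w, reassoc_of% sq₂.w]))
  have hr₁ : r ≫ p₁ = π₁ ≫ w := (yon S).map_injective (by rw [Functor.map_comp, hr, sqR.lift_fst])
  have hr₂ : r ≫ p₂ = π₂ ≫ w := (yon S).map_injective (by rw [Functor.map_comp, hr, sqR.lift_snd])
  have sqa₁ : IsPullback ((yon S).map π₁) ((yon S).map r) ((yon S).map w) ((yon S).map p₁) := by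
    refine IsPullback.of_bot ?_ (by rw [← Functor.map_comp, ← Functor.map_comp, hr₁]) sqR
    have := sq₂.paste_vert sqY
    rw [sqY.w] at this
    rwa [← Functor.map_comp, hr₂, Functor.map_comp]
  have sqa₂ : IsPullback ((yon S).map π₂) ((yon S).map r) ((yon S).map w) ((yon S).map p₂) := by
    refine IsPullback.of_bot ?_ (by rw [← Functor.map_comp, ← Functor.map_comp, hr₂]) sqR.flip
    have := sq₂.flip.paste_vert sqY
    rw [sqY.w] at this
    rwa [← Functor.map_comp, hr₁, Functor.map_comp]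
  have sqs₁ := isPullback_yon_iff.1 sqa₁
  have sqs₂ := isPullback_yon_iff.1 sqa₂
  have : IsAffine Y₂.left := by
    have : IsAffineHom r.left := MorphismProperty.of_isPullback sqs₁ (inferInstance : IsAffineHom w.left)
    exact isAffine_of_isAffineHom r.left
  -- the triple level
  obtain ⟨Y₃, u₁₂, u₂₃, sq₃⟩ := exists_pullback (IsAlgSpace.yon_obj YU).diag ((yon S).map π₂) ((yon S).map π₁)
  have hu := isPullback_yon_iff.1 sq₃
  have hb : u₁₂ ≫ π₂ = u₂₃ ≫ π₁ :=
    (yon S).map_injective (by rw [Functor.map_comp, Functor.map_comp]; exact sq₃.w)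
  obtain ⟨u₁₃, hu₁₃⟩ := exists_map_eq (sq₂.lift ((yon S).map (u₁₂ ≫ π₁)) ((yon S).map (u₂₃ ≫ π₂)) (by
    rw [Functor.map_comp, Functor.map_comp, Category.assoc, Category.assoc, sq₂.w, reassoc_of% sq₃.w, sq₂.w]))
  have hu₁ : u₁₃ ≫ π₁ = u₁₂ ≫ π₁ := (yon S).map_injective (by rw [Functor.map_comp, hu₁₃, sq₂.lift_fst])
  have hu₂ : u₁₃ ≫ π₂ = u₂₃ ≫ π₂ := (yon S).map_injective (by rw [Functor.map_comp, hu₁₃, sq₂.lift_snd])
  obtain ⟨R₃, v₁₂, v₂₃, sqR₃⟩ := exists_pullback (IsAlgSpace.yon_obj U).diag ((yon S).map p₂) ((yon S).map p₁)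
  have hv := isPullback_yon_iff.1 sqR₃
  have hvb : v₁₂ ≫ p₂ = v₂₃ ≫ p₁ :=
    (yon S).map_injective (by rw [Functor.map_comp, Functor.map_comp]; exact sqR₃.w)
  obtain ⟨v₁₃, hv₁₃⟩ := exists_map_eq (sqR.lift ((yon S).map (v₁₂ ≫ p₁)) ((yon S).map (v₂₃ ≫ p₂)) (by
    rw [Functor.map_comp, Functor.map_comp, Category.assoc, Category.assoc, sqR.w, reassoc_of% sqR₃.w, sqR.w]))
  have hv₁ : v₁₃ ≫ p₁ = v₁₂ ≫ p₁ := (yon S).map_injective (by rw [Functor.map_comp, hv₁₃, sqR.lift_fst])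
  have hv₂ : v₁₃ ≫ p₂ = v₂₃ ≫ p₂ := (yon S).map_injective (by rw [Functor.map_comp, hv₁₃, sqR.lift_snd])
  obtain ⟨y₃, hy₃⟩ := exists_map_eq (sqR₃.lift ((yon S).map (u₁₂ ≫ r)) ((yon S).map (u₂₃ ≫ r)) (by
    rw [← Functor.map_comp, ← Functor.map_comp, Category.assoc, Category.assoc, hr₁, hr₂, reassoc_of% hb]))
  have hy₁₂ : y₃ ≫ v₁₂ = u₁₂ ≫ r := (yon S).map_injective (by rw [Functor.map_comp, hy₃, sqR₃.lift_fst])
  have hy₂₃ : y₃ ≫ v₂₃ = u₂₃ ≫ r := (yon S).map_injective (by rw [Functor.map_comp, hy₃, sqR₃.lift_snd])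
  have hy₁₃ : y₃ ≫ v₁₃ = u₁₃ ≫ r := by
    refine (yon S).map_injective (sqR.hom_ext ?_ ?_)
    · rw [← Functor.map_comp, ← Functor.map_comp, Category.assoc, Category.assoc, hv₁, hr₁, reassoc_of% hy₁₂, hr₁,
        reassoc_of% hu₁]
    · rw [← Functor.map_comp, ← Functor.map_comp, Category.assoc, Category.assoc, hv₂, hr₂, reassoc_of% hy₂₃, hr₂,
        reassoc_of% hu₂]
  have hR₃ : IsAffine R₃.left := by
    have : IsAffineHom p₂.left := isAffineHom_of_isAffine _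
    have : IsAffineHom v₂₃.left := MorphismProperty.of_isPullback hv (inferInstance : IsAffineHom p₂.left)
    exact isAffine_of_isAffineHom v₂₃.left
  have hY₃ : IsAffine Y₃.left := by
    have : IsAffineHom π₂.left := isAffineHom_of_isAffine _
    have : IsAffineHom u₂₃.left := MorphismProperty.of_isPullback hu (inferInstance : IsAffineHom π₂.left)
    exact isAffine_of_isAffineHom u₂₃.left
  have sqE : IsPullback (u₁₂.left ≫ r.left) u₂₃.left p₂.left (π₁.left ≫ w.left) := hu.paste_horiz sqs₂.flip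
  -- the subalgebra
  have hh₁ : π₁.left ≫ w.left = r.left ≫ p₁.left := by rw [← Over.comp_left, ← Over.comp_left, hr₁]
  have L : ∀ {A B C : Over S} {f : A ⟶ B} {f' : B ⟶ C} {k : A ⟶ C}, f ≫ f' = k → f.left ≫ f'.left = k.left :=
    fun e => congrArg (fun m => m.left) e
  have L2 : ∀ {A B B' C : Over S} {f : A ⟶ B} {f' : B ⟶ C} {k : A ⟶ B'} {k' : B' ⟶ C},
      f ≫ f' = k ≫ k' → f.left ≫ f'.left = k.left ≫ k'.left := fun e => congrArg (fun m => m.left) e
  have h3 := tripleRings hh₁ sqs₂ (u₁₂ := u₁₂.left) (u₂₃ := u₂₃.left) (u₁₃ := u₁₃.left) (v₁₂ := v₁₂.left)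
    (v₂₃ := v₂₃.left) (v₁₃ := v₁₃.left) (y₃ := y₃.left) (L2 hb) (L2 hu₁) (L2 hu₂) hv (L2 hy₁₂) (L2 hy₂₃)
    (L2 hy₁₃) sqE
  have hA : IsNoetherianRing Γ(U.left, ⊤) :=
    IsLocallyNoetherian.component_noetherian ⟨⊤, isAffineOpen_top U.left⟩
  have hint : w.left.appTop.hom.IsIntegral := ((HasAffineProperty.iff_of_isAffine (P := @IsIntegralHom)).1 hw).2
  obtain ⟨B', hBfg, hsB, hBinv⟩ := exists_finite_invariant hint (descRings hh₁ sqs₂) h3 s
  letI := w.left.appTop.hom.toAlgebra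
  -- its spectrum
  let TU₀ : Scheme.{u} := Spec (CommRingCat.of B')
  let v₀ : TU₀ ⟶ U.left := Spec.map (CommRingCat.ofHom (algebraMap Γ(U.left, ⊤) B')) ≫ U.left.isoSpec.inv
  let h₀ : YU.left ⟶ TU₀ := YU.left.isoSpec.hom ≫ Spec.map (CommRingCat.ofHom B'.val.toRingHom)
  let TU : Over S := Over.mk (v₀ ≫ U.hom)
  have hhv : h₀ ≫ v₀ = w.left := by
    show (_ ≫ _) ≫ _ ≫ _ = _
    rw [Category.assoc, ← Spec.map_comp_assoc,
      show CommRingCat.ofHom (algebraMap Γ(U.left, ⊤) B') ≫ CommRingCat.ofHom B'.val.toRingHom = w.left.appTop from rfl,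
      Scheme.isoSpec_inv_naturality, Iso.hom_inv_id_assoc]
  let v : TU ⟶ U := Over.homMk v₀ rfl
  let h : YU ⟶ TU := Over.homMk h₀ (by show h₀ ≫ v₀ ≫ U.hom = _; rw [reassoc_of% hhv, Over.w w])
  have hhv' : h ≫ v = w := Over.OverMorphism.ext hhv
  have : IsAffine TU.left := inferInstanceAs (IsAffine (Spec _))
  have hhT : ∀ x : B', h.left.appTop ((Scheme.ΓSpecIso (CommRingCat.of B')).inv x) = x.1 := fun x => by
    show (YU.left.isoSpec.hom ≫ Spec.map (CommRingCat.ofHom B'.val.toRingHom)).appTop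
      ((Scheme.ΓSpecIso (CommRingCat.of B')).inv x) = x.1
    rw [Scheme.Hom.comp_appTop, Scheme.isoSpec_hom, Scheme.toSpecΓ_appTop]
    have e := congr($(Scheme.ΓSpecIso_naturality (CommRingCat.ofHom B'.val.toRingHom)).hom
      ((Scheme.ΓSpecIso (CommRingCat.of B')).inv x))
    simp only [CommRingCat.hom_comp, RingHom.comp_apply] at e ⊢
    erw [e]
    rw [Iso.inv_hom_id_apply]
    rfl
  have hTsurj : Function.Surjective ((Scheme.ΓSpecIso (CommRingCat.of B')).inv : CommRingCat.of B' ⟶ _).hom :=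
    (ConcreteCategory.bijective_of_isIso (Scheme.ΓSpecIso (CommRingCat.of B')).inv).2
  have hhinj : Function.Injective h.left.appTop := fun x y e => by
    obtain ⟨x, rfl⟩ := hTsurj x
    obtain ⟨y, rfl⟩ := hTsurj y
    exact congrArg _ (Subtype.ext ((hhT x).symm.trans (e.trans (hhT y))))
  have hfin : Module.Finite Γ(U.left, ⊤) B' := Module.Finite.iff_fg.2 hBfg
  have hvfin : IsFinite v.left := by
    show IsFinite (_ ≫ U.left.isoSpec.inv)
    rw [MorphismProperty.cancel_right_of_respectsIso (P := @IsFinite), IsFinite.SpecMap_iff]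
    exact RingHom.finite_algebraMap.2 hfin
  have hsurj : Function.Surjective h.left := by
    have : IsIntegralHom h₀ := by
      have h1 : IsIntegralHom (h₀ ≫ v₀) := hhv ▸ hw
      have : IsAffineHom v₀ := (hvfin : IsFinite v.left).toIsAffineHom
      exact MorphismProperty.of_postcomp (W := @IsIntegralHom) (W' := @IsSeparated) h₀ v₀ inferInstance h1
    refine fun t => ?_
    have hd : IsDominant h₀ := isDominant_of_of_appTop_injective (f := h₀) hhinj
    have h2 : Set.range h₀ = Set.univ := by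
      rw [← h₀.isClosedMap.isClosed_range.closure_eq]
      exact h₀.denseRange.closure_range
    exact (Set.range_eq_univ.1 h2 t)
  -- the relation
  obtain ⟨T₂, t₂, rT, sqT₂⟩ := exists_pullback (IsAlgSpace.yon_obj U).diag ((yon S).map v) ((yon S).map p₂)
  have sqT := isPullback_yon_iff.1 sqT₂
  have ht₂r : t₂ ≫ v = rT ≫ p₂ :=
    (yon S).map_injective (by rw [Functor.map_comp, Functor.map_comp]; exact sqT₂.w)
  have hT₂ : IsAffine T₂.left := by
    have : IsAffineHom rT.left := MorphismProperty.of_isPullback sqT (inferInstance : IsAffineHom v.left)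
    exact isAffine_of_isAffineHom rT.left
  obtain ⟨h₂, hh₂⟩ := exists_map_eq (sqT₂.lift ((yon S).map (π₂ ≫ h)) ((yon S).map r) (by
    rw [← Functor.map_comp, ← Functor.map_comp, Category.assoc, hhv', hr₂]))
  have h₂t : h₂ ≫ t₂ = π₂ ≫ h := (yon S).map_injective (by rw [Functor.map_comp, hh₂, sqT₂.lift_fst])
  have h₂r : h₂ ≫ rT = r := (yon S).map_injective (by rw [Functor.map_comp, hh₂, sqT₂.lift_snd])
  have sqh₂ : IsPullback π₂.left h₂.left h.left t₂.left := by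
    refine IsPullback.of_bot ?_ (L2 h₂t).symm sqT
    rw [L h₂r, L hhv']
    exact sqs₂
  have : Etale t₂.left := MorphismProperty.of_isPullback sqT.flip hp₂e
  have hh₂inj : Function.Injective h₂.left.appTop := SpChev.appTop_injective_of_isPullback sqh₂ hhinj
  -- the other projection, from invariance
  have hφ : ∀ x : Γ(TU.left, ⊤), ∃ y : Γ(T₂.left, ⊤), h₂.left.appTop y = π₁.left.appTop (h.left.appTop x) := fun x => by
    obtain ⟨x, rfl⟩ := hTsurj x
    rw [hhT]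
    obtain ⟨n, c, b, hbB, e⟩ := hBinv x.1 x.2
    refine ⟨∑ k, rT.left.appTop (c k) * t₂.left.appTop ((Scheme.ΓSpecIso (CommRingCat.of B')).inv (⟨b k, hbB k⟩ : B')), ?_⟩
    rw [map_sum]
    refine Eq.trans (Finset.sum_congr rfl fun k _ => ?_) e.symm
    rw [map_mul]
    refine congrArg₂ (· * ·) ?_ ?_
    · rw [← CommRingCat.comp_apply, ← Scheme.Hom.comp_appTop, L h₂r]
    · rw [← CommRingCat.comp_apply, ← Scheme.Hom.comp_appTop, L2 h₂t, Scheme.Hom.comp_appTop, CommRingCat.comp_apply,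
        hhT]
  choose φ hφ using hφ
  let φ' : Γ(TU.left, ⊤) →+* Γ(T₂.left, ⊤) :=
    { toFun := φ
      map_one' := hh₂inj (by rw [hφ, map_one, map_one, map_one])
      map_mul' := fun x y => hh₂inj (by rw [hφ, map_mul, map_mul, map_mul, hφ, hφ])
      map_zero' := hh₂inj (by rw [hφ, map_zero, map_zero, map_zero])
      map_add' := fun x y => hh₂inj (by rw [hφ, map_add, map_add, map_add, hφ, hφ]) }
  obtain ⟨t₁', ht₁'⟩ := exists_hom_appTop φ'
  have ht₁h : h₂.left ≫ t₁' = π₁.left ≫ h.left := ext_of_isAffine (CommRingCat.hom_ext (RingHom.ext fun x => by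
    rw [Scheme.Hom.comp_appTop, Scheme.Hom.comp_appTop]
    show h₂.left.appTop.hom (t₁'.appTop.hom x) = _
    rw [ht₁']
    exact hφ x))
  have ht₁v : t₁' ≫ v.left = rT.left ≫ p₁.left := eq_of_appTop_injective h₂.left hh₂inj (by
    rw [reassoc_of% ht₁h, L hhv', reassoc_of% (L h₂r), hh₁])
  let t₁ : T₂ ⟶ TU := Over.homMk t₁' (by
    show t₁' ≫ v.left ≫ U.hom = _
    rw [reassoc_of% ht₁v, Over.w p₁, Over.w rT])
  have h₂t₁ : h₂ ≫ t₁ = π₁ ≫ h := Over.OverMorphism.ext ht₁h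
  have ht₁r : t₁ ≫ v = rT ≫ p₁ := Over.OverMorphism.ext ht₁v
  -- the swap
  obtain ⟨sw, hsw⟩ := exists_map_eq (sqR.lift ((yon S).map p₂) ((yon S).map p₁) sqR.w.symm)
  have hsw₁ : sw ≫ p₁ = p₂ := (yon S).map_injective (by rw [Functor.map_comp, hsw, sqR.lift_fst])
  have hsw₂ : sw ≫ p₂ = p₁ := (yon S).map_injective (by rw [Functor.map_comp, hsw, sqR.lift_snd])
  obtain ⟨swY, hswY⟩ := exists_map_eq (sq₂.lift ((yon S).map π₂) ((yon S).map π₁) sq₂.w.symm)
  have hswY₁ : swY ≫ π₁ = π₂ := (yon S).map_injective (by rw [Functor.map_comp, hswY, sq₂.lift_fst])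
  have hswY₂ : swY ≫ π₂ = π₁ := (yon S).map_injective (by rw [Functor.map_comp, hswY, sq₂.lift_snd])
  obtain ⟨σ, hσ⟩ := exists_map_eq (sqT₂.lift ((yon S).map t₁) ((yon S).map (rT ≫ sw)) (by
    rw [← Functor.map_comp, ← Functor.map_comp, ht₁r, Category.assoc, hsw₂]))
  have hσt : σ ≫ t₂ = t₁ := (yon S).map_injective (by rw [Functor.map_comp, hσ, sqT₂.lift_fst])
  have hσr : σ ≫ rT = rT ≫ sw := (yon S).map_injective (by rw [Functor.map_comp, hσ, sqT₂.lift_snd])
  have hσh : h₂ ≫ σ = swY ≫ h₂ := by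
    refine (yon S).map_injective (sqT₂.hom_ext ?_ ?_)
    · rw [← Functor.map_comp, ← Functor.map_comp, Category.assoc, Category.assoc, hσt, h₂t₁, h₂t, reassoc_of% hswY₂]
    · rw [← Functor.map_comp, ← Functor.map_comp, Category.assoc, Category.assoc, hσr, reassoc_of% h₂r, h₂r]
      refine congrArg _ ((yon S).map_injective (sqR.hom_ext ?_ ?_))
      · rw [← Functor.map_comp, ← Functor.map_comp, Category.assoc, Category.assoc, hsw₁, hr₁, hr₂, reassoc_of% hswY₁]
      · rw [← Functor.map_comp, ← Functor.map_comp, Category.assoc, Category.assoc, hsw₂, hr₁, hr₂, reassoc_of% hswY₂]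
  have hσ₁ : σ ≫ t₁ = t₂ := over_eq_of_appTop_injective h₂ hh₂inj (by
    rw [reassoc_of% hσh, h₂t₁, reassoc_of% hswY₁, h₂t])
  have hswsw : sw ≫ sw = 𝟙 R := (yon S).map_injective (sqR.hom_ext
    (by rw [← Functor.map_comp, Category.assoc, hsw₁, hsw₂, CategoryTheory.Functor.map_id, Category.id_comp])
    (by rw [← Functor.map_comp, Category.assoc, hsw₂, hsw₁, CategoryTheory.Functor.map_id, Category.id_comp]))
  have hσσ : σ ≫ σ = 𝟙 T₂ := (yon S).map_injective (sqT₂.hom_ext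
    (by rw [← Functor.map_comp, Category.assoc, hσt, hσ₁, CategoryTheory.Functor.map_id, Category.id_comp])
    (by rw [← Functor.map_comp, Category.assoc, hσr, reassoc_of% hσr, hswsw, Category.comp_id,
      CategoryTheory.Functor.map_id, Category.id_comp]))
  have : IsIso σ.left := ⟨σ.left, L (k := 𝟙 T₂) hσσ, L (k := 𝟙 T₂) hσσ⟩
  have : IsIso sw.left := ⟨sw.left, L (k := 𝟙 R) hswsw, L (k := 𝟙 R) hswsw⟩
  have ht₁e : Etale t₁.left := by
    rw [← hσt, Over.comp_left]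
    infer_instance
  have sqT' : IsPullback t₁.left rT.left v.left p₁.left :=
    sqT.of_iso (asIso σ.left) (Iso.refl _) (asIso sw.left) (Iso.refl _)
      (by simp only [asIso_hom, Iso.refl_hom, Category.comp_id]; exact (L hσ₁).symm)
      (by simp only [asIso_hom]; exact (L2 hσr).symm)
      (by simp) (by simp only [asIso_hom, Iso.refl_hom, Category.comp_id]; exact (L hsw₁).symm)
  -- the diagonal
  obtain ⟨δ, hδ⟩ := exists_map_eq (sqR.lift (𝟙 _) (𝟙 _) rfl)
  have hδ₁ : δ ≫ p₁ = 𝟙 U :=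
    (yon S).map_injective (by rw [Functor.map_comp, hδ, sqR.lift_fst, CategoryTheory.Functor.map_id])
  have hδ₂ : δ ≫ p₂ = 𝟙 U :=
    (yon S).map_injective (by rw [Functor.map_comp, hδ, sqR.lift_snd, CategoryTheory.Functor.map_id])
  obtain ⟨dd, hdd⟩ := exists_map_eq (sqT₂.lift (𝟙 _) ((yon S).map (v ≫ δ)) (by
    rw [Category.id_comp, ← Functor.map_comp, Category.assoc, hδ₂, Category.comp_id]))
  have hdd₂ : dd ≫ t₂ = 𝟙 TU :=
    (yon S).map_injective (by rw [Functor.map_comp, hdd, sqT₂.lift_fst, CategoryTheory.Functor.map_id])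
  have hddr : dd ≫ rT = v ≫ δ := (yon S).map_injective (by rw [Functor.map_comp, hdd, sqT₂.lift_snd])
  obtain ⟨δY, hδY⟩ := exists_map_eq (sq₂.lift (𝟙 _) (𝟙 _) rfl)
  have hδY₁ : δY ≫ π₁ = 𝟙 YU :=
    (yon S).map_injective (by rw [Functor.map_comp, hδY, sq₂.lift_fst, CategoryTheory.Functor.map_id])
  have hδY₂ : δY ≫ π₂ = 𝟙 YU :=
    (yon S).map_injective (by rw [Functor.map_comp, hδY, sq₂.lift_snd, CategoryTheory.Functor.map_id])
  have hδh : h ≫ dd = δY ≫ h₂ := by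
    refine (yon S).map_injective (sqT₂.hom_ext ?_ ?_)
    · rw [← Functor.map_comp, ← Functor.map_comp, Category.assoc, Category.assoc, hdd₂, h₂t, reassoc_of% hδY₂,
        Category.comp_id]
    · rw [← Functor.map_comp, ← Functor.map_comp, Category.assoc, Category.assoc, hddr, h₂r, reassoc_of% hhv']
      refine congrArg _ ((yon S).map_injective (sqR.hom_ext ?_ ?_))
      · rw [← Functor.map_comp, ← Functor.map_comp, Category.assoc, Category.assoc, hδ₁, hr₁, reassoc_of% hδY₁,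
          Category.comp_id]
      · rw [← Functor.map_comp, ← Functor.map_comp, Category.assoc, Category.assoc, hδ₂, hr₂, reassoc_of% hδY₂,
          Category.comp_id]
  have hdd₁ : dd ≫ t₁ = 𝟙 TU := over_eq_of_appTop_injective h hhinj (by
    rw [reassoc_of% hδh, h₂t₁, reassoc_of% hδY₁, Category.comp_id])
  have hinjR : ∀ {T : Over S} (x y : T ⟶ R), x ≫ p₁ = y ≫ p₁ → x ≫ p₂ = y ≫ p₂ → x = y := fun x y e₁ e₂ =>
    (yon S).map_injective (sqR.hom_ext (by rw [← Functor.map_comp, ← Functor.map_comp, e₁])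
      (by rw [← Functor.map_comp, ← Functor.map_comp, e₂]))
  have hinj : ∀ (T : Over S) (x y : T ⟶ T₂), x ≫ t₁ = y ≫ t₁ → x ≫ t₂ = y ≫ t₂ → x = y := fun T x y e₁ e₂ => by
    refine (yon S).map_injective (sqT₂.hom_ext (by rw [← Functor.map_comp, ← Functor.map_comp, e₂]) ?_)
    rw [← Functor.map_comp, ← Functor.map_comp]
    refine congrArg _ (hinjR _ _ ?_ ?_)
    · rw [Category.assoc, Category.assoc, ← ht₁r, reassoc_of% e₁]
    · rw [Category.assoc, Category.assoc, ← ht₂r, reassoc_of% e₂]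
  -- composition
  obtain ⟨P₃, s₁₂, s₂₃, sqP⟩ := exists_pullback (IsAlgSpace.yon_obj TU).diag ((yon S).map t₂) ((yon S).map t₁)
  have sqP' := isPullback_yon_iff.1 sqP
  have hP₃ : IsAffine P₃.left := by
    have : IsAffineHom t₁.left := isAffineHom_of_isAffine _
    have : IsAffineHom s₁₂.left := MorphismProperty.of_isPullback sqP'.flip (inferInstance : IsAffineHom t₁.left)
    exact isAffine_of_isAffineHom s₁₂.left
  have hsb : s₁₂ ≫ t₂ = s₂₃ ≫ t₁ :=
    (yon S).map_injective (by rw [Functor.map_comp, Functor.map_comp]; exact sqP.w)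
  obtain ⟨h₃, hh₃⟩ := exists_map_eq (sqP.lift ((yon S).map (u₁₂ ≫ h₂)) ((yon S).map (u₂₃ ≫ h₂)) (by
    rw [← Functor.map_comp, ← Functor.map_comp, Category.assoc, Category.assoc, h₂t, h₂t₁, reassoc_of% hb]))
  have h₃₁ : h₃ ≫ s₁₂ = u₁₂ ≫ h₂ := (yon S).map_injective (by rw [Functor.map_comp, hh₃, sqP.lift_fst])
  have h₃₂ : h₃ ≫ s₂₃ = u₂₃ ≫ h₂ := (yon S).map_injective (by rw [Functor.map_comp, hh₃, sqP.lift_snd])
  have sqh₁ : IsPullback π₁.left h₂.left h.left t₁.left := by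
    refine IsPullback.of_bot ?_ (L2 h₂t₁).symm sqT'
    rw [L h₂r, L hhv']
    exact sqs₁
  have sqh₃ : IsPullback u₁₂.left h₃.left h₂.left s₁₂.left := by
    refine IsPullback.of_bot ?_ (L2 h₃₁).symm sqP'
    rw [L2 h₃₂, L2 h₂t]
    exact IsPullback.paste_vert hu sqh₁
  have hs₁₂ : Flat s₁₂.left := MorphismProperty.of_isPullback sqP'.flip (inferInstance : Flat t₁.left)
  have hh₃inj : Function.Injective h₃.left.appTop := SpChev.appTop_injective_of_isPullback sqh₃ hh₂inj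
  obtain ⟨q, hq⟩ := exists_map_eq (sqR.lift ((yon S).map (s₁₂ ≫ rT ≫ p₁)) ((yon S).map (s₂₃ ≫ rT ≫ p₂)) (by
    have e₁ : s₁₂ ≫ rT ≫ p₂ = s₂₃ ≫ rT ≫ p₁ := by rw [← ht₂r, ← ht₁r, reassoc_of% hsb]
    simp only [Functor.map_comp, Category.assoc]
    rw [sqR.w, ← Functor.map_comp_assoc, ← Functor.map_comp_assoc, Category.assoc, e₁]
    simp only [Functor.map_comp, Category.assoc, sqR.w]))
  have hq₂ : q ≫ p₂ = s₂₃ ≫ rT ≫ p₂ := (yon S).map_injective (by rw [Functor.map_comp, hq, sqR.lift_snd])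
  have hq₁ : q ≫ p₁ = s₁₂ ≫ rT ≫ p₁ := (yon S).map_injective (by rw [Functor.map_comp, hq, sqR.lift_fst])
  obtain ⟨μ, hμ⟩ := exists_map_eq (sqT₂.lift ((yon S).map (s₂₃ ≫ t₂)) ((yon S).map q) (by
    rw [← Functor.map_comp, ← Functor.map_comp, Category.assoc, ht₂r, hq₂]))
  have hμ₂ : μ ≫ t₂ = s₂₃ ≫ t₂ := (yon S).map_injective (by rw [Functor.map_comp, hμ, sqT₂.lift_fst])
  have hμr : μ ≫ rT = q := (yon S).map_injective (by rw [Functor.map_comp, hμ, sqT₂.lift_snd])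
  have hμh : h₃ ≫ μ = u₁₃ ≫ h₂ := by
    refine (yon S).map_injective (sqT₂.hom_ext ?_ ?_)
    · rw [← Functor.map_comp, ← Functor.map_comp, Category.assoc, Category.assoc, hμ₂, reassoc_of% h₃₂, h₂t,
        reassoc_of% hu₂]
    · rw [← Functor.map_comp, ← Functor.map_comp, Category.assoc, Category.assoc, hμr, h₂r]
      refine congrArg _ (hinjR _ _ ?_ ?_)
      · rw [Category.assoc, Category.assoc, hq₁, reassoc_of% h₃₁, reassoc_of% h₂r, hr₁, reassoc_of% hu₁]
      · rw [Category.assoc, Category.assoc, hq₂, reassoc_of% h₃₂, reassoc_of% h₂r, hr₂, reassoc_of% hu₂]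
  have hμ₁ : μ ≫ t₁ = s₁₂ ≫ t₁ := over_eq_of_appTop_injective h₃ hh₃inj (by
    rw [reassoc_of% hμh, h₂t₁, reassoc_of% h₃₁, h₂t₁, reassoc_of% hu₁])
  refine ⟨TU, T₂, v, h, rT, t₁, t₂, h₂, inferInstance, hvfin, hsurj, hhv', ⟨fun T x y e₁ e₂ => hinj T x y e₁ e₂,
    fun T => ⟨fun x => ⟨x ≫ dd, by rw [Category.assoc, hdd₁, Category.comp_id],
      by rw [Category.assoc, hdd₂, Category.comp_id]⟩, ?_, ?_⟩⟩, ht₁e, inferInstance, ht₁r, ht₂r, sqT', h₂t₁, h₂t,
    fun b hb' => ⟨_, hhT ⟨b, hsB b hb'⟩⟩, fun T x => ⟨x ≫ dd, by rw [Category.assoc, hdd₁, Category.comp_id],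
      by rw [Category.assoc, hdd₂, Category.comp_id], fun T' ρ z e₁ e₂ e₃ => ?_⟩⟩
  · rintro x y ⟨ρ, rfl, rfl⟩
    exact ⟨ρ ≫ σ, by rw [Category.assoc, hσ₁], by rw [Category.assoc, hσt]⟩
  · rintro x y z ⟨ρ, rfl, rfl⟩ ⟨ρ', e, rfl⟩
    obtain ⟨l, hl⟩ := exists_map_eq (sqP.lift ((yon S).map ρ) ((yon S).map ρ') (by
      rw [← Functor.map_comp, ← Functor.map_comp, e]))
    have hl₁ : l ≫ s₁₂ = ρ := (yon S).map_injective (by rw [Functor.map_comp, hl, sqP.lift_fst])
    have hl₂ : l ≫ s₂₃ = ρ' := (yon S).map_injective (by rw [Functor.map_comp, hl, sqP.lift_snd])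
    exact ⟨l ≫ μ, by rw [Category.assoc, hμ₁, reassoc_of% hl₁], by rw [Category.assoc, hμ₂, reassoc_of% hl₂]⟩
  · have hrT : ρ ≫ rT = z ≫ x ≫ v ≫ δ := by
      refine hinjR _ _ ?_ ?_
      · simp only [Category.assoc, hδ₁, Category.comp_id]
        exact e₁
      · simp only [Category.assoc, hδ₂, Category.comp_id]
        exact e₂
    have hts : ∀ {T' : Over S} (a b : T' ⟶ T₂), a ≫ t₁ = b ≫ t₁ → a ≫ rT = b ≫ rT → a = b := fun a b e e' => by
      refine Over.OverMorphism.ext (sqT'.hom_ext (L2 e) (L2 e'))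
    refine hts _ _ ?_ ?_
    · rw [e₃, Category.assoc, Category.assoc, hdd₁, Category.comp_id]
    · rw [hrT, Category.assoc, Category.assoc, hddr]

end Groth.Agent.SpFinCover
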